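import Mathlib

/-!
Automorphisms of an elementary abelian group of order at most `p ^ d` embed in `GL_d(p)`.
-/

set_option autoImplicit false

namespace CfsgLib.InvChar

theorem exists_injective_end_matrix {p d : ℕ} [Fact p.Prime] {A : Type*} [AddCommGroup A] [Finite A]
    [Module (ZMod p) A] (hc : Nat.card A ≤ p ^ d) :
    ∃ f : Module.End (ZMod p) A →* Matrix (Fin d) (Fin d) (ZMod p), Function.Injective f := by
  set r := Module.finrank (ZMod p) A with hr
  have hle : r ≤ d := by
    rw [Module.natCard_eq_pow_finrank (K := ZMod p) (V := A), Nat.card_zmod] at hc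
    exact (Nat.pow_le_pow_iff_right (Fact.out : p.Prime).one_lt).1 hc
  have hdim : Module.finrank (ZMod p) (A × (Fin (d - r) → ZMod p)) =
      Module.finrank (ZMod p) (Fin d → ZMod p) := by
    rw [Module.finrank_prod, Module.finrank_fin_fun, Module.finrank_fin_fun, ← hr]; omega
  let e := LinearEquiv.ofFinrankEq _ _ hdim
  let g : Module.End (ZMod p) A →* Module.End (ZMod p) (Fin d → ZMod p) :=
    { toFun := fun u => e.toLinearMap ∘ₗ (u.prodMap LinearMap.id) ∘ₗ e.symm.toLinearMap
      map_one' := LinearMap.ext fun v => by simp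
      map_mul' := fun u w => LinearMap.ext fun v => by simp [Module.End.mul_apply] }
  refine ⟨(LinearMap.toMatrixAlgEquiv'.toRingEquiv.toMonoidHom).comp g, fun u w h => ?_⟩
  have h1 : g u = g w := LinearMap.toMatrixAlgEquiv'.injective h
  refine LinearMap.ext fun v => ?_
  have h2 := LinearMap.congr_fun h1 (e (v, 0))
  simp only [g, MonoidHom.coe_mk, OneHom.coe_mk, LinearMap.comp_apply, LinearEquiv.coe_coe,
    LinearEquiv.symm_apply_apply, LinearMap.prodMap_apply, EmbeddingLike.apply_eq_iff_eq,
    Prod.mk.injEq] at h2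
  exact h2.1

theorem exists_injective_GL_of_act {p d : ℕ} [Fact p.Prime] {A : Type*} [AddCommGroup A] [Finite A]
    [Module (ZMod p) A] (hc : Nat.card A ≤ p ^ d) {M : Type*} [Group M] (act : M → (A →+ A))
    (h1 : ∀ x, act 1 x = x) (hm : ∀ s t x, act (s * t) x = act s (act t x))
    (hinj : ∀ s, (∀ x, act s x = x) → s = 1) :
    ∃ f : M →* GL (Fin d) (ZMod p), Function.Injective f := by
  obtain ⟨f, hf⟩ := exists_injective_end_matrix (p := p) (d := d) (A := A) hc
  let φ : M →* Module.End (ZMod p) A :=
    { toFun := fun s => (act s).toZModLinearMap p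
      map_one' := LinearMap.ext fun x => h1 x
      map_mul' := fun s t => LinearMap.ext fun x => hm s t x }
  refine ⟨(f.comp φ).toHomUnits, ?_⟩
  rw [injective_iff_map_eq_one]
  intro s hs
  refine hinj s fun x => ?_
  have h := hf ((congrArg Units.val hs).trans f.map_one.symm : f (φ s) = f 1)
  exact LinearMap.congr_fun h x

theorem exists_injective_mulAut_GL {V : Type*} [CommGroup V] [Finite V] {p d : ℕ} [Fact p.Prime]
    (hexp : ∀ v : V, v ^ p = 1) (hc : Nat.card V ≤ p ^ d) :
    ∃ f : MulAut V →* GL (Fin d) (ZMod p), Function.Injective f := by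
  let inst : Module (ZMod p) (Additive V) := AddCommGroup.zmodModule (fun v => by
    show Additive.ofMul ((Additive.toMul v) ^ p) = _
    rw [hexp]; rfl)
  refine @exists_injective_GL_of_act p d _ (Additive V) _ _ inst (by rwa [Nat.card_congr Additive.toMul])
    (MulAut V) _ (fun σ => MonoidHom.toAdditive σ.toMonoidHom) (fun x => by simp) (fun s t x => by simp) ?_
  intro σ hσ
  refine MulEquiv.ext fun v => ?_
  simpa using hσ (Additive.ofMul v)

end CfsgLib.InvChar
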