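import Cfsg.Agent.Lib.InvChar.SymThreeModel

/-!
The two elementary abelian subgroups of order 16 of a Sylow 2-subgroup of `PSL₃(4)`, their normalizers.
-/

set_option autoImplicit false
set_option linter.unusedSectionVars false

namespace CfsgLib.InvChar.PSLThreeFour

open CfsgLib.InvChar.SymThree (unitri unitri_mul mk_unitri_injective four_basis card_PSL_three_four)

variable {F : Type*} [Field F] [Fintype F]

local notation "SL₃" => Matrix.SpecialLinearGroup (Fin 3) F
local notation "PSL₃" => Matrix.ProjectiveSpecialLinearGroup (Fin 3) F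

/-- The image of an upper unitriangular matrix. -/
def ut (a b d : F) : PSL₃ := QuotientGroup.mk (unitri a b d)

theorem ut_mul (a b d a' b' d' : F) :
    ut a b d * ut a' b' d' = ut (a + a') (b + b') (d + d' + a * b') := by
  simp only [ut, ← QuotientGroup.mk_mul, unitri_mul]

theorem ut_zero : ut (0 : F) 0 0 = 1 := by
  have h : unitri (0 : F) 0 0 = 1 := Subtype.ext (by
    ext i j; fin_cases i <;> fin_cases j <;> simp [unitri])
  rw [ut, h]; rfl

theorem ut_inv (a b d : F) : (ut a b d)⁻¹ = ut (-a) (-b) (a * b - d) := by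
  refine inv_eq_of_mul_eq_one_right ?_
  rw [ut_mul, ← ut_zero]
  congr 1 <;> ring

theorem ut_inj {a b d a' b' d' : F} (h : ut a b d = ut a' b' d') : a = a' ∧ b = b' ∧ d = d' :=
  mk_unitri_injective h

/-- The upper unitriangular subgroup. -/
def U : Subgroup PSL₃ where
  carrier := {g | ∃ a b d, g = ut a b d}
  one_mem' := ⟨0, 0, 0, ut_zero.symm⟩
  mul_mem' := by rintro _ _ ⟨a, b, d, rfl⟩ ⟨a', b', d', rfl⟩; exact ⟨_, _, _, ut_mul ..⟩
  inv_mem' := by rintro _ ⟨a, b, d, rfl⟩; exact ⟨_, _, _, ut_inv ..⟩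

/-- The first elementary abelian subgroup. -/
def A₁ : Subgroup PSL₃ where
  carrier := {g | ∃ b d, g = ut 0 b d}
  one_mem' := ⟨0, 0, ut_zero.symm⟩
  mul_mem' := by
    rintro _ _ ⟨b, d, rfl⟩ ⟨b', d', rfl⟩
    exact ⟨_, _, by rw [ut_mul, add_zero]⟩
  inv_mem' := by
    rintro _ ⟨b, d, rfl⟩
    exact ⟨_, _, by rw [ut_inv, neg_zero]⟩

/-- The second elementary abelian subgroup. -/
def A₂ : Subgroup PSL₃ where
  carrier := {g | ∃ a d, g = ut a 0 d}
  one_mem' := ⟨0, 0, ut_zero.symm⟩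
  mul_mem' := by
    rintro _ _ ⟨a, d, rfl⟩ ⟨a', d', rfl⟩
    exact ⟨_, _, by rw [ut_mul, add_zero]⟩
  inv_mem' := by
    rintro _ ⟨a, d, rfl⟩
    exact ⟨_, _, by rw [ut_inv, neg_zero]⟩

theorem A₁_le : (A₁ : Subgroup PSL₃) ≤ U := by
  rintro _ ⟨b, d, rfl⟩; exact ⟨0, b, d, rfl⟩

theorem A₂_le : (A₂ : Subgroup PSL₃) ≤ U := by
  rintro _ ⟨a, d, rfl⟩; exact ⟨a, 0, d, rfl⟩

theorem sup_eq : (A₁ : Subgroup PSL₃) ⊔ A₂ = U := by
  refine le_antisymm (sup_le A₁_le A₂_le) ?_
  rintro _ ⟨a, b, d, rfl⟩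
  have h : ut a b d = ut 0 b d * ut a 0 0 := by rw [ut_mul]; simp
  rw [h]
  exact mul_mem (Subgroup.mem_sup_left ⟨b, d, rfl⟩) (Subgroup.mem_sup_right ⟨a, 0, rfl⟩)

theorem mem_A₁_of_commute {g : PSL₃} (hg : g ∈ (U : Subgroup PSL₃))
    (h : ∀ y ∈ (A₁ : Subgroup PSL₃), g * y = y * g) : g ∈ (A₁ : Subgroup PSL₃) := by
  obtain ⟨a, b, d, rfl⟩ := hg
  have h1 := h (ut 0 1 0) ⟨1, 0, rfl⟩
  rw [ut_mul, ut_mul] at h1
  have h2 := (ut_inj h1).2.2
  simp at h2
  subst h2
  exact ⟨b, d, rfl⟩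

section fintype

theorem two_eq_zero (hF : Fintype.card F = 4) : (2 : F) = 0 := by
  obtain ⟨w, -, -, -, -, h2, -⟩ := four_basis hF
  rw [← one_add_one_eq_two]; exact h2

theorem card_U (hF : Fintype.card F = 4) : Nat.card (U : Subgroup PSL₃) = 64 := by
  rw [← Nat.card_eq_of_bijective (fun p : F × F × F =>
    (⟨ut p.1 p.2.1 p.2.2, _, _, _, rfl⟩ : (U : Subgroup PSL₃))) ⟨?_, ?_⟩]
  · rw [Nat.card_eq_fintype_card, Fintype.card_prod, Fintype.card_prod, hF]
  · rintro ⟨a, b, d⟩ ⟨a', b', d'⟩ h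
    obtain ⟨rfl, rfl, rfl⟩ := ut_inj (congrArg Subtype.val h)
    rfl
  · rintro ⟨_, a, b, d, rfl⟩
    exact ⟨(a, b, d), rfl⟩

theorem card_A₁ (hF : Fintype.card F = 4) : Nat.card (A₁ : Subgroup PSL₃) = 16 := by
  rw [← Nat.card_eq_of_bijective (fun p : F × F =>
    (⟨ut 0 p.1 p.2, _, _, rfl⟩ : (A₁ : Subgroup PSL₃))) ⟨?_, ?_⟩]
  · rw [Nat.card_eq_fintype_card, Fintype.card_prod, hF]
  · rintro ⟨b, d⟩ ⟨b', d'⟩ h
    obtain ⟨-, rfl, rfl⟩ := ut_inj (congrArg Subtype.val h)
    rfl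
  · rintro ⟨_, b, d, rfl⟩
    exact ⟨(b, d), rfl⟩

theorem card_A₂ (hF : Fintype.card F = 4) : Nat.card (A₂ : Subgroup PSL₃) = 16 := by
  rw [← Nat.card_eq_of_bijective (fun p : F × F =>
    (⟨ut p.1 0 p.2, _, _, rfl⟩ : (A₂ : Subgroup PSL₃))) ⟨?_, ?_⟩]
  · rw [Nat.card_eq_fintype_card, Fintype.card_prod, hF]
  · rintro ⟨b, d⟩ ⟨b', d'⟩ h
    obtain ⟨rfl, -, rfl⟩ := ut_inj (congrArg Subtype.val h)
    rfl
  · rintro ⟨_, b, d, rfl⟩
    exact ⟨(b, d), rfl⟩

theorem classify (hF : Fintype.card F = 4) {E : Subgroup PSL₃} (hE : E ≤ U)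
    (hE2 : ∀ e ∈ E, e ^ 2 = 1) (hc : Nat.card E = 16) : E = A₁ ∨ E = A₂ := by
  have h2 := two_eq_zero hF
  have hmem : ∀ e ∈ E, e ∈ (A₁ : Subgroup PSL₃) ∨ e ∈ (A₂ : Subgroup PSL₃) := by
    intro e he
    obtain ⟨a, b, d, rfl⟩ := hE he
    have h := hE2 _ he
    rw [pow_two, ut_mul, ← ut_zero] at h
    have h3 : a * b = 0 := by linear_combination (ut_inj h).2.2 - d * h2
    rcases mul_eq_zero.1 h3 with rfl | rfl
    · exact Or.inl ⟨b, d, rfl⟩
    · exact Or.inr ⟨a, d, rfl⟩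
  have hsub : E ≤ A₁ ∨ E ≤ A₂ := by
    by_contra! h
    obtain ⟨x, hx, hx1⟩ := SetLike.not_le_iff_exists.1 h.1
    obtain ⟨y, hy, hy2⟩ := SetLike.not_le_iff_exists.1 h.2
    rcases hmem _ (mul_mem hx hy) with h' | h'
    · exact hx1 ((Subgroup.mul_mem_cancel_right _ ((hmem y hy).resolve_right hy2)).1 h')
    · exact hy2 ((Subgroup.mul_mem_cancel_left _ ((hmem x hx).resolve_left hx1)).1 h')
  rcases hsub with h | h
  · exact Or.inl (SetLike.coe_injective (Set.eq_of_subset_of_ncard_le h (by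
      show Nat.card (A₁ : Subgroup PSL₃) ≤ Nat.card E; rw [card_A₁ hF, hc]) (Set.toFinite _)))
  · exact Or.inr (SetLike.coe_injective (Set.eq_of_subset_of_ncard_le h (by
      show Nat.card (A₂ : Subgroup PSL₃) ≤ Nat.card E; rw [card_A₂ hF, hc]) (Set.toFinite _)))

end fintype

/-- The inverse transpose, followed by reversal of the coordinates. -/
noncomputable def dualFun (M : SL₃) : SL₃ :=
  ⟨(↑(M⁻¹) : Matrix (Fin 3) (Fin 3) F).transpose.submatrix Fin.rev Fin.rev, by
    rw [show (Fin.rev : Fin 3 → Fin 3) = (Fin.revPerm : Equiv.Perm (Fin 3)) from rfl,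
      Matrix.det_submatrix_equiv_self, Matrix.det_transpose]
    exact (M⁻¹).2⟩

theorem dualFun_mul (M N : SL₃) : dualFun (M * N) = dualFun M * dualFun N := by
  apply Subtype.ext
  rw [Matrix.SpecialLinearGroup.coe_mul]
  show (↑((M * N)⁻¹) : Matrix (Fin 3) (Fin 3) F).transpose.submatrix Fin.rev Fin.rev = _
  rw [mul_inv_rev, Matrix.SpecialLinearGroup.coe_mul, Matrix.transpose_mul]
  exact (Matrix.submatrix_mul _ _ _ _ _ Fin.rev_bijective)

theorem dualFun_dualFun (M : SL₃) : dualFun (dualFun M) = M := by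
  have h : (dualFun M)⁻¹ = dualFun M⁻¹ := inv_eq_of_mul_eq_one_right (by
    rw [← dualFun_mul, mul_inv_cancel]
    apply Subtype.ext
    show (↑((1 : SL₃)⁻¹) : Matrix (Fin 3) (Fin 3) F).transpose.submatrix Fin.rev Fin.rev = _
    rw [inv_one, Matrix.SpecialLinearGroup.coe_one, Matrix.transpose_one]
    exact Matrix.submatrix_one _ Fin.rev_injective)
  apply Subtype.ext
  show (↑((dualFun M)⁻¹) : Matrix (Fin 3) (Fin 3) F).transpose.submatrix Fin.rev Fin.rev = _
  rw [h]
  ext i j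
  simp [dualFun]

/-- The graph automorphism of `SL₃`. -/
noncomputable def dual : SL₃ ≃* SL₃ where
  toFun := dualFun
  invFun := dualFun
  left_inv := dualFun_dualFun
  right_inv := dualFun_dualFun
  map_mul' := dualFun_mul

theorem map_center_dual :
    (Subgroup.center SL₃).map ((dual : SL₃ ≃* SL₃) : SL₃ →* SL₃) = Subgroup.center SL₃ := by
  ext y
  simp only [Subgroup.mem_map, Subgroup.mem_center_iff]
  constructor
  · rintro ⟨x, hx, rfl⟩ g
    have h := congrArg (dual : SL₃ ≃* SL₃) (hx ((dual : SL₃ ≃* SL₃).symm g))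
    rw [map_mul, map_mul, MulEquiv.apply_symm_apply] at h
    exact h
  · intro hy
    refine ⟨(dual : SL₃ ≃* SL₃).symm y, fun g => ?_, (dual : SL₃ ≃* SL₃).apply_symm_apply y⟩
    apply (dual : SL₃ ≃* SL₃).injective
    rw [map_mul, map_mul, MulEquiv.apply_symm_apply]
    exact hy _

/-- The graph automorphism of `PSL₃`. -/
noncomputable def pdual : PSL₃ ≃* PSL₃ :=
  QuotientGroup.congr _ _ dual map_center_dual

theorem pdual_ut (a b d : F) : pdual (ut a b d) = ut (-b) (-a) (a * b - d) := by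
  show (QuotientGroup.mk (dualFun (unitri a b d)) : PSL₃) = _
  have hinv : (unitri a b d)⁻¹ = unitri (-a) (-b) (a * b - d) := by
    refine inv_eq_of_mul_eq_one_right ?_
    rw [unitri_mul]
    apply Subtype.ext
    ext i j; fin_cases i <;> fin_cases j <;> simp [unitri]
  rw [ut]
  congr 1
  apply Subtype.ext
  show (↑((unitri a b d)⁻¹) : Matrix (Fin 3) (Fin 3) F).transpose.submatrix Fin.rev Fin.rev = _
  rw [hinv]
  ext i j
  fin_cases i <;> fin_cases j <;> simp [unitri, Fin.rev]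

theorem map_pdual_A₂ : (A₂ : Subgroup PSL₃).map (pdual : PSL₃ ≃* PSL₃).toMonoidHom = A₁ := by
  ext y
  constructor
  · rintro ⟨_, ⟨a, d, rfl⟩, rfl⟩
    exact ⟨-a, -d, by show pdual (ut a 0 d) = _; rw [pdual_ut]; simp⟩
  · rintro ⟨b, d, rfl⟩
    refine ⟨ut (-b) 0 (-d), ⟨-b, -d, rfl⟩, ?_⟩
    show pdual (ut (-b) 0 (-d)) = _
    rw [pdual_ut]; simp

theorem map_pdual_A₁ : (A₁ : Subgroup PSL₃).map (pdual : PSL₃ ≃* PSL₃).toMonoidHom = A₂ := by
  ext y
  constructor
  · rintro ⟨_, ⟨b, d, rfl⟩, rfl⟩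
    exact ⟨-b, -d, by show pdual (ut 0 b d) = _; rw [pdual_ut]; simp⟩
  · rintro ⟨a, d, rfl⟩
    refine ⟨ut 0 (-a) (-d), ⟨-a, -d, rfl⟩, ?_⟩
    show pdual (ut 0 (-a) (-d)) = _
    rw [pdual_ut]; simp

theorem map_pdual_U : (U : Subgroup PSL₃).map (pdual : PSL₃ ≃* PSL₃).toMonoidHom = U := by
  rw [← sup_eq, Subgroup.map_sup, map_pdual_A₂, map_pdual_A₁, sup_comm]

/-! ### The normalizer of `A₁` -/

theorem mk_mem_normalizer {M : SL₃} (h0 : (M : Matrix (Fin 3) (Fin 3) F) 2 0 = 0)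
    (h1 : (M : Matrix (Fin 3) (Fin 3) F) 2 1 = 0) :
    (QuotientGroup.mk M : PSL₃) ∈ Subgroup.normalizer ((A₁ : Subgroup PSL₃) : Set PSL₃) := by
  have key : ∀ b d : F, ∃ b' d' : F, (QuotientGroup.mk M : PSL₃) * ut 0 b d =
      ut 0 b' d' * QuotientGroup.mk M := by
    intro b d
    set m := (M : Matrix (Fin 3) (Fin 3) F) with hm
    have h22 : m 2 2 ≠ 0 := fun h => by
      have := M.2
      rw [Matrix.det_fin_three, ← hm, h0, h1, h] at this
      simp at this
    refine ⟨(m 1 0 * d + m 1 1 * b) / m 2 2, (m 0 0 * d + m 0 1 * b) / m 2 2, ?_⟩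
    simp only [ut, ← QuotientGroup.mk_mul]
    congr 1
    apply Subtype.ext
    rw [Matrix.SpecialLinearGroup.coe_mul, Matrix.SpecialLinearGroup.coe_mul, ← hm]
    ext i j
    fin_cases i <;> fin_cases j <;>
      simp [unitri, Matrix.mul_apply, Fin.sum_univ_three, h0, h1, div_mul_cancel₀ _ h22] <;> ring
  have hle : (A₁ : Subgroup PSL₃).map (MulAut.conj (QuotientGroup.mk M : PSL₃)).toMonoidHom ≤ A₁ := by
    rintro _ ⟨_, ⟨b, d, rfl⟩, rfl⟩
    obtain ⟨b', d', h⟩ := key b d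
    exact ⟨b', d', by show _ * ut 0 b d * _⁻¹ = _; rw [h, mul_inv_cancel_right]⟩
  have heq : (A₁ : Subgroup PSL₃).map (MulAut.conj (QuotientGroup.mk M : PSL₃)).toMonoidHom = A₁ :=
    SetLike.coe_injective (Set.eq_of_subset_of_ncard_le hle (by
      show Nat.card (A₁ : Subgroup PSL₃) ≤
        Nat.card ((A₁ : Subgroup PSL₃).map (MulAut.conj (QuotientGroup.mk M : PSL₃)).toMonoidHom)
      rw [Subgroup.card_map_of_injective
        (show Function.Injective (MulAut.conj (QuotientGroup.mk M : PSL₃)).toMonoidHom from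
          (MulAut.conj (QuotientGroup.mk M : PSL₃)).injective)]) (Set.toFinite _))
  rw [Subgroup.mem_normalizer_iff]
  intro y
  constructor
  · intro hy; exact heq ▸ ⟨y, hy, rfl⟩
  · intro hy
    rw [← heq] at hy
    obtain ⟨z, hz, hzy⟩ := hy
    exact (MulAut.conj _).injective hzy ▸ hz

theorem of_mk_mem_normalizer {M : SL₃}
    (h : (QuotientGroup.mk M : PSL₃) ∈ Subgroup.normalizer ((A₁ : Subgroup PSL₃) : Set PSL₃)) :
    (M : Matrix (Fin 3) (Fin 3) F) 2 0 = 0 ∧ (M : Matrix (Fin 3) (Fin 3) F) 2 1 = 0 := by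
  set m := (M : Matrix (Fin 3) (Fin 3) F) with hm
  have key : ∀ b d : F, ∃ r : F, m 2 0 = r * m 2 0 ∧ m 2 1 = r * m 2 1 ∧
      m 2 2 + (b * m 2 1 + d * m 2 0) = r * m 2 2 := by
    intro b d
    obtain ⟨b', d', he⟩ := (Subgroup.mem_normalizer_iff.1 h (ut 0 b d)).1 ⟨b, d, rfl⟩
    rw [mul_inv_eq_iff_eq_mul] at he
    simp only [ut, ← QuotientGroup.mk_mul] at he
    obtain ⟨r, -, hr⟩ := Matrix.SpecialLinearGroup.mem_center_iff.1 (QuotientGroup.eq.1 he.symm)
    have hM : ((M * unitri 0 b d : SL₃) : Matrix (Fin 3) (Fin 3) F) =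
        ((unitri 0 b' d' * M : SL₃) : Matrix (Fin 3) (Fin 3) F) * Matrix.scalar (Fin 3) r := by
      rw [hr, ← Matrix.SpecialLinearGroup.coe_mul, mul_inv_cancel_left]
    rw [Matrix.SpecialLinearGroup.coe_mul, Matrix.SpecialLinearGroup.coe_mul, ← hm] at hM
    refine ⟨r, ?_, ?_, ?_⟩
    · have := congrFun (congrFun hM 2) 0
      simp [unitri, Matrix.mul_apply, Fin.sum_univ_three, Matrix.scalar_apply, Matrix.vecMul, dotProduct] at this
      linear_combination this
    · have := congrFun (congrFun hM 2) 1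
      simp [unitri, Matrix.mul_apply, Fin.sum_univ_three, Matrix.scalar_apply, Matrix.vecMul, dotProduct] at this
      linear_combination this
    · have := congrFun (congrFun hM 2) 2
      simp [unitri, Matrix.mul_apply, Fin.sum_univ_three, Matrix.scalar_apply, Matrix.vecMul, dotProduct] at this
      linear_combination this
  obtain ⟨r, a1, a2, a3⟩ := key 1 0
  obtain ⟨s, c1, c2, c3⟩ := key 0 1
  by_cases hr : r = 1
  · have e1 : m 2 1 = 0 := by rw [hr] at a3; linear_combination a3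
    by_cases hs : s = 1
    · exact ⟨by rw [hs] at c3; linear_combination c3, e1⟩
    · exact ⟨(mul_eq_zero.1 (show (s - 1) * m 2 0 = 0 by linear_combination -c1)).resolve_left
        (sub_ne_zero.2 hs), e1⟩
  · exact ⟨(mul_eq_zero.1 (show (r - 1) * m 2 0 = 0 by linear_combination -a1)).resolve_left
      (sub_ne_zero.2 hr), (mul_eq_zero.1 (show (r - 1) * m 2 1 = 0 by linear_combination -a2)).resolve_left
      (sub_ne_zero.2 hr)⟩

theorem pow_three (hF : Fintype.card F = 4) {x : F} (hx : x ≠ 0) : x ^ 3 = 1 := by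
  have := FiniteField.pow_card_sub_one_eq_one x hx
  rwa [hF] at this

/-- The block of an element of the normalizer. -/
def block (M : SL₃) : Matrix (Fin 2) (Fin 2) F :=
  (M : Matrix (Fin 3) (Fin 3) F).submatrix Fin.castSucc Fin.castSucc

theorem exists_levi_hom (hF : Fintype.card F = 4) :
    ∃ π : ↥(Subgroup.normalizer ((A₁ : Subgroup PSL₃) : Set PSL₃)) →*
        Matrix.ProjectiveSpecialLinearGroup (Fin 2) F,
      Function.Surjective π ∧ ∀ g, π g = 1 ↔ (g : PSL₃) ∈ (A₁ : Subgroup PSL₃) := by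
  classical
  have h2 := two_eq_zero hF
  set N := Subgroup.normalizer ((A₁ : Subgroup PSL₃) : Set PSL₃) with hN
  let N' : Subgroup SL₃ := N.comap (QuotientGroup.mk' _)
  have hz : ∀ M : N', (M : Matrix (Fin 3) (Fin 3) F) 2 0 = 0 ∧ (M : Matrix (Fin 3) (Fin 3) F) 2 1 = 0 :=
    fun M => of_mk_mem_normalizer M.2
  have hdet : ∀ M : N', (block (M : SL₃)).det * (M : Matrix (Fin 3) (Fin 3) F) 2 2 = 1 := fun M => by
    have h := (M : SL₃).2
    rw [Matrix.det_fin_three, (hz M).1, (hz M).2] at h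
    simp [block, Matrix.det_fin_two]
    linear_combination h
  have hd0 : ∀ M : N', (block (M : SL₃)).det ≠ 0 := fun M h => by
    have := hdet M
    rw [h, zero_mul] at this
    exact zero_ne_one this
  have hbm : ∀ M M' : N', block ((M * M' : N') : SL₃) = block (M : SL₃) * block (M' : SL₃) := fun M M' => by
    ext i j
    fin_cases i <;> fin_cases j <;>
      simp [block, Matrix.mul_apply, Fin.sum_univ_three, Fin.sum_univ_two, (hz M').1, (hz M').2]
  let f₀ : N' → Matrix.SpecialLinearGroup (Fin 2) F := fun M =>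
    ⟨(block (M : SL₃)).det • block (M : SL₃), by
      rw [Matrix.det_smul, Fintype.card_fin]
      linear_combination pow_three hF (hd0 M)⟩
  let f : N' →* Matrix.SpecialLinearGroup (Fin 2) F := MonoidHom.mk' f₀ fun M M' => Subtype.ext (by
    show (block ((M * M' : N') : SL₃)).det • block ((M * M' : N') : SL₃) =
      ((block (M : SL₃)).det • block (M : SL₃)) * ((block (M' : SL₃)).det • block (M' : SL₃))
    rw [hbm, Matrix.det_mul, Matrix.smul_mul, Matrix.mul_smul, smul_smul])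
  let q : N' →* N := MonoidHom.mk' (fun M => ⟨QuotientGroup.mk (M : SL₃), M.2⟩) fun M M' => rfl
  have hq : Function.Surjective q := fun g => by
    obtain ⟨M, hM⟩ := QuotientGroup.mk_surjective (g : PSL₃)
    exact ⟨⟨M, by show (QuotientGroup.mk M : PSL₃) ∈ N; rw [hM]; exact g.2⟩, Subtype.ext hM⟩
  have hker : q.ker ≤ f.ker := fun M hM => by
    have h : (M : SL₃) ∈ Subgroup.center SL₃ :=
      (QuotientGroup.eq_one_iff _).1 (congrArg Subtype.val hM)
    obtain ⟨r, hr3, hr⟩ := Matrix.SpecialLinearGroup.mem_center_iff.1 h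
    rw [Fintype.card_fin] at hr3
    have hb : block (M : SL₃) = r • (1 : Matrix (Fin 2) (Fin 2) F) := by
      ext i j
      rw [block, ← hr]
      fin_cases i <;> fin_cases j <;> simp [Matrix.scalar_apply]
    refine Subtype.ext ?_
    show (block (M : SL₃)).det • block (M : SL₃) = 1
    rw [hb, Matrix.det_smul, Matrix.det_one, Fintype.card_fin, mul_one, smul_smul,
      show r ^ 2 * r = 1 by linear_combination hr3, one_smul]
  have hc2 : Nat.card (Subgroup.center (Matrix.SpecialLinearGroup (Fin 2) F)) = 1 := by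
    rw [CfsgLib.ClassicalLinear.card_center_SL, Fintype.card_fin, hF]; rfl
  let π₀ : N →* Matrix.SpecialLinearGroup (Fin 2) F := q.liftOfSurjective hq ⟨f, hker⟩
  have hπ₀ : ∀ M, π₀ (q M) = f M := fun M =>
    MonoidHom.liftOfRightInverse_comp_apply _ _ _ ⟨f, hker⟩ M
  refine ⟨(QuotientGroup.mk' _).comp π₀, ?_, fun g => ?_⟩
  · intro y
    obtain ⟨B, rfl⟩ := QuotientGroup.mk_surjective y
    set b := (B : Matrix (Fin 2) (Fin 2) F) with hb
    have hBd : b 0 0 * b 1 1 - b 0 1 * b 1 0 = 1 := by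
      rw [← Matrix.det_fin_two]; exact B.2
    let M : SL₃ := ⟨!![b 0 0, b 0 1, 0; b 1 0, b 1 1, 0; 0, 0, 1], by
      simp [Matrix.det_fin_three]; linear_combination hBd⟩
    have hM : M ∈ N' := mk_mem_normalizer (by simp [M]) (by simp [M])
    refine ⟨q ⟨M, hM⟩, ?_⟩
    show QuotientGroup.mk (π₀ (q ⟨M, hM⟩)) = _
    rw [hπ₀]
    congr 1
    apply Subtype.ext
    have hbl : block M = b := by
      ext i j; fin_cases i <;> fin_cases j <;> simp [block, M]
    show (block M).det • block M = b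
    rw [hbl, Matrix.det_fin_two, hBd, one_smul]
  · obtain ⟨M, rfl⟩ := hq g
    show (QuotientGroup.mk (π₀ (q M)) : Matrix.ProjectiveSpecialLinearGroup (Fin 2) F) = 1 ↔
      (QuotientGroup.mk (M : SL₃) : PSL₃) ∈ (A₁ : Subgroup PSL₃)
    rw [hπ₀, QuotientGroup.eq_one_iff, Subgroup.card_eq_one.1 hc2, Subgroup.mem_bot]
    set m := ((M : SL₃) : Matrix (Fin 3) (Fin 3) F) with hm
    constructor
    · intro h
      have h' : (block (M : SL₃)).det • block (M : SL₃) = 1 := congrArg Subtype.val h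
      set δ := (block (M : SL₃)).det with hδ
      have hδ3 := pow_three hF (hd0 M)
      have e00 := congrFun (congrFun h' 0) 0
      have e01 := congrFun (congrFun h' 0) 1
      have e10 := congrFun (congrFun h' 1) 0
      have e11 := congrFun (congrFun h' 1) 1
      simp [block, ← hm] at e00 e01 e10 e11
      rw [← hδ] at hδ3
      set c := δ ^ 2 with hc
      have h00 : m 0 0 = c := by linear_combination (δ ^ 2) * e00 - m 0 0 * hδ3
      have h11 : m 1 1 = c := by linear_combination (δ ^ 2) * e11 - m 1 1 * hδ3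
      have h22 : m 2 2 = c := by
        have := hdet M
        rw [← hδ] at this
        linear_combination (δ ^ 2) * this - m 2 2 * hδ3
      have hc3 : c ^ 3 = 1 := by rw [hc]; linear_combination (δ ^ 3 + 1) * hδ3
      refine ⟨c ^ 2 * m 1 2, c ^ 2 * m 0 2, QuotientGroup.eq.2 ?_⟩
      refine Matrix.SpecialLinearGroup.mem_center_iff.2 ⟨c ^ 2, ?_, ?_⟩
      · rw [Fintype.card_fin]; linear_combination (c ^ 3 + 1) * hc3
      · let Sc : SL₃ := ⟨Matrix.scalar (Fin 3) (c ^ 2), by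
          rw [Matrix.scalar_apply, Matrix.det_diagonal]
          simp
          linear_combination (c ^ 3 + 1) * hc3⟩
        have hinv : unitri (0 : F) (c ^ 2 * m 1 2) (c ^ 2 * m 0 2) = (M : SL₃) * Sc := by
          apply Subtype.ext
          rw [Matrix.SpecialLinearGroup.coe_mul]
          ext i j
          fin_cases i <;> fin_cases j <;>
            simp [unitri, Sc, ← hm, Matrix.scalar_apply, h00, h11, h22] <;>
            first
              | linear_combination -hc3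
              | ring1
              | exact Or.inl (e01.resolve_left (hd0 M))
              | exact Or.inl (e10.resolve_left (hd0 M))
              | exact Or.inl (hz M).1
              | exact Or.inl (hz M).2
        rw [hinv, inv_mul_cancel_left]
    · rintro ⟨b', d', h⟩
      obtain ⟨r, hr3, hr⟩ := Matrix.SpecialLinearGroup.mem_center_iff.1 (QuotientGroup.eq.1 h.symm)
      rw [Fintype.card_fin] at hr3
      have hM : m = (unitri 0 b' d' : SL₃).1 * Matrix.scalar (Fin 3) r := by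
        rw [hr, ← Matrix.SpecialLinearGroup.coe_mul, mul_inv_cancel_left]
      have hb : block (M : SL₃) = r • (1 : Matrix (Fin 2) (Fin 2) F) := by
        rw [block, ← hm, hM]
        ext i j
        fin_cases i <;> fin_cases j <;> simp [unitri, Matrix.scalar_apply]
      refine Subtype.ext ?_
      show (block (M : SL₃)).det • block (M : SL₃) = 1
      rw [hb, Matrix.det_smul, Matrix.det_one, Fintype.card_fin, mul_one, smul_smul,
        show r ^ 2 * r = 1 by linear_combination hr3, one_smul]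

theorem transitive_A₁ (hF : Fintype.card F = 4) {y : PSL₃} (hy : y ∈ (A₁ : Subgroup PSL₃))
    (hy1 : y ≠ 1) :
    ∃ g ∈ Subgroup.normalizer ((A₁ : Subgroup PSL₃) : Set PSL₃), g * ut 0 0 1 * g⁻¹ = y := by
  have h2 := two_eq_zero hF
  obtain ⟨b, d, rfl⟩ := hy
  have hex : ∃ p q : F, d * q - p * b = 1 := by
    by_cases hd : d = 0
    · refine ⟨-b⁻¹, 0, ?_⟩
      have hb : b ≠ 0 := fun h => hy1 (by rw [h, hd, ut_zero])
      field_simp; ring
    · exact ⟨0, d⁻¹, by field_simp; ring⟩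
  obtain ⟨p, q, hpq⟩ := hex
  let M : SL₃ := ⟨!![d, p, 0; b, q, 0; 0, 0, 1], by
    simp [Matrix.det_fin_three]; linear_combination hpq⟩
  refine ⟨QuotientGroup.mk M, mk_mem_normalizer (by simp [M]) (by simp [M]), ?_⟩
  rw [mul_inv_eq_iff_eq_mul]
  simp only [ut, ← QuotientGroup.mk_mul]
  congr 1
  apply Subtype.ext
  rw [Matrix.SpecialLinearGroup.coe_mul, Matrix.SpecialLinearGroup.coe_mul]
  ext i j
  fin_cases i <;> fin_cases j <;> simp [unitri, M, Matrix.mul_apply, Fin.sum_univ_three]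

theorem U_le_normalizer :
    (U : Subgroup PSL₃) ≤ Subgroup.normalizer ((A₁ : Subgroup PSL₃) : Set PSL₃) := by
  rintro _ ⟨a, b, d, rfl⟩
  exact mk_mem_normalizer (by simp [unitri]) (by simp [unitri])

end CfsgLib.InvChar.PSLThreeFour
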