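import Cfsg.Agent.Lib.InvChar.Basic
import Cfsg.Agent.Lib.Cores.PCore

/-! A short proof of the Baer–Suzuki theorem in the form used for involutions. -/

set_option autoImplicit false

namespace CfsgLib.InvChar

open Subgroup

variable {G : Type*} [Group G] [Finite G] {p : ℕ} [hp : Fact p.Prime]

/-- Baer–Suzuki: if any two conjugates of `a` generate a `p`-group then `a ∈ O_p(G)`. -/
theorem mem_pCore_of_conj_pairs (a : G)
    (h : ∀ x y : G, IsConj a x → IsConj a y → IsPGroup p (closure ({x, y} : Set G))) :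
    a ∈ Cfsg.pCore p G := by
  classical
  let d : Sylow p G → Set G := fun P => {x | IsConj a x ∧ x ∈ (P : Subgroup G)}
  -- each `d P` has the same cardinality
  have hcard : ∀ P Q : Sylow p G, (d P).ncard = (d Q).ncard := by
    intro P Q
    obtain ⟨g, rfl⟩ := MulAction.exists_smul_eq G P Q
    refine Set.ncard_congr (fun x _ => g * x * g⁻¹) (fun x hx => ⟨?_, ?_⟩) (fun x y _ _ e => ?_) ?_
    · exact hx.1.trans (isConj_iff.2 ⟨g, rfl⟩)
    · rw [cj_smul_sylow]; exact conj_mem_cj hx.2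
    · exact mul_left_cancel (mul_right_cancel e)
    · intro y hy
      refine ⟨g⁻¹ * y * g, ⟨hy.1.trans (isConj_iff.2 ⟨g⁻¹, by simp⟩), ?_⟩, by group⟩
      have h2 := hy.2
      rw [cj_smul_sylow, mem_cj] at h2
      exact h2
  suffices hall : ∀ P Q : Sylow p G, d P = d Q by
    rw [CfsgLib.Cores.pCore_eq_iInf_sylow, Subgroup.mem_iInf]
    intro P
    obtain ⟨R, hR⟩ := (h a a (IsConj.refl a) (IsConj.refl a)).exists_le_sylow
    have : a ∈ d R := ⟨IsConj.refl a, hR (subset_closure (by simp))⟩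
    rw [hall R P] at this
    exact this.2
  by_contra hne
  push Not at hne
  obtain ⟨P0, Q0, h0⟩ := hne
  let pairs : Set (Sylow p G × Sylow p G) := {q | d q.1 ≠ d q.2}
  obtain ⟨⟨P, Q⟩, hPQ, hmax⟩ := Set.Finite.exists_maximalFor
    (fun q : Sylow p G × Sylow p G => (d q.1 ∩ d q.2).ncard) pairs (Set.toFinite _)
    ⟨(P0, Q0), h0⟩
  let I : Set G := d P ∩ d Q
  -- the set stabiliser of `I`
  let N : Subgroup G := normalizer I
  have step : ∀ R : Sylow p G, I ⊆ d R → I ≠ d R → ∃ x ∈ d R, x ∉ I ∧ x ∈ N := by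
    intro R hIR hne'
    by_contra hcon
    push Not at hcon
    -- the part of `R` stabilising `I`
    let H : Subgroup G := (R : Subgroup G) ⊓ N
    have hlt : H < (R : Subgroup G) := by
      refine lt_of_le_of_ne inf_le_left fun e => hne' (le_antisymm hIR fun x hx => ?_)
      by_contra hx'
      exact hcon x hx hx' (e.ge hx.2).2
    have hIH : ∀ x ∈ I, x ∈ H := by
      intro x hx
      refine ⟨(hIR hx).2, ?_⟩
      have key : ∀ (S : Sylow p G) {u v : G}, u ∈ (S : Subgroup G) → v ∈ d S → u * v * u⁻¹ ∈ d S :=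
        fun S u v hu hv => ⟨hv.1.trans (isConj_iff.2 ⟨u, rfl⟩), mul_mem (mul_mem hu hv.2) (inv_mem hu)⟩
      refine mem_set_normalizer_iff.2 fun n => ?_
      constructor
      · exact fun hn => ⟨key P hx.1.2 hn.1, key Q hx.2.2 hn.2⟩
      · intro hn
        have e : x⁻¹ * (x * n * x⁻¹) * x⁻¹⁻¹ = n := by group
        exact e ▸ ⟨key P (inv_mem hx.1.2) hn.1, key Q (inv_mem hx.2.2) hn.2⟩
    obtain ⟨n, hnR, hnH, hnN⟩ := exists_mem_normalizer_not_mem R.2 hlt
    refine hnH ⟨hnR, mem_set_normalizer_iff.2 fun x => ?_⟩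
    have key : ∀ u ∈ normalizer (H : Set G), u ∈ (R : Subgroup G) → ∀ v ∈ I, u * v * u⁻¹ ∈ I := by
      intro u hu huR v hv
      have h1 : u * v * u⁻¹ ∈ H := (mem_set_normalizer_iff.1 hu v).1 (hIH v hv)
      by_contra hc
      exact hcon _ ⟨(hIR hv).1.trans (isConj_iff.2 ⟨u, rfl⟩), h1.1⟩ hc h1.2
    constructor
    · exact key n hnN hnR x
    · intro hx
      have := key n⁻¹ (inv_mem hnN) (inv_mem hnR) _ hx
      simpa [mul_assoc] using this
  have hIP : I ≠ d P := by
    intro e
    apply hPQ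
    have hsub : d P ⊆ d Q := e ▸ Set.inter_subset_right
    exact Set.eq_of_subset_of_ncard_le hsub (hcard Q P).le
  have hIQ : I ≠ d Q := by
    intro e
    apply hPQ
    have hsub : d Q ⊆ d P := e ▸ Set.inter_subset_left
    exact (Set.eq_of_subset_of_ncard_le hsub (hcard P Q).le).symm
  obtain ⟨x, hxP, hxI, hxN⟩ := step P Set.inter_subset_left hIP
  obtain ⟨y, hyQ, hyI, hyN⟩ := step Q Set.inter_subset_right hIQ
  let X : Subgroup G := closure I
  have hNX : N ≤ normalizer (X : Set G) := normalizer_le_normalizer_closure I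
  have hX : IsPGroup p X := P.2.to_le (closure_le _ |>.2 fun z hz => hz.1.2)
  have hY := h x y hxP.1 hyQ.1
  have hYN : closure ({x, y} : Set G) ≤ normalizer (X : Set G) :=
    (closure_le _).2 (Set.insert_subset (hNX hxN) (Set.singleton_subset_iff.2 (hNX hyN)))
  obtain ⟨R, hR⟩ := (hY.to_sup_of_normal_right' hX hYN).exists_le_sylow
  have hIR : I ⊆ d R := fun z hz => ⟨hz.1.1, hR (le_sup_right (a := closure ({x, y} : Set G)) (subset_closure hz))⟩
  have hxR : x ∈ d R := ⟨hxP.1, hR (le_sup_left (b := X) (subset_closure (by simp)))⟩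
  have hyR : y ∈ d R := ⟨hyQ.1, hR (le_sup_left (b := X) (subset_closure (by simp)))⟩
  have hRP : d R = d P := by
    by_contra hc
    have h1 : I ⊂ d R ∩ d P :=
      ⟨Set.subset_inter hIR Set.inter_subset_left, fun hh => hxI (hh ⟨hxR, hxP⟩)⟩
    exact (Set.ncard_lt_ncard h1).not_ge (hmax (j := (R, P)) hc (Set.ncard_lt_ncard h1).le)
  have hRQ : d R = d Q := by
    by_contra hc
    have h1 : I ⊂ d R ∩ d Q :=
      ⟨Set.subset_inter hIR Set.inter_subset_right, fun hh => hyI (hh ⟨hyR, hyQ⟩)⟩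
    exact (Set.ncard_lt_ncard h1).not_ge (hmax (j := (R, Q)) hc (Set.ncard_lt_ncard h1).le)
  exact hPQ (hRP.symm.trans hRQ)

/-- An involution outside `O₂(G)` has a conjugate with which it generates a dihedral group
of order twice an odd number greater than one. -/
theorem exists_conj_odd_orderOf_mul (a : G) (ha : orderOf a = 2) (hn : a ∉ Cfsg.pCore 2 G) :
    ∃ y : G, IsConj a y ∧ Odd (orderOf (a * y)) ∧ a * y ≠ 1 := by
  haveI : Fact (Nat.Prime 2) := ⟨Nat.prime_two⟩
  by_contra hcon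
  push Not at hcon
  have ha2 : a * a = 1 := by rw [← pow_two, ← ha]; exact pow_orderOf_eq_one a
  apply hn
  -- every `a * y` is a 2-element
  have hpow : ∀ y : G, IsConj a y → ∃ k, orderOf (a * y) = 2 ^ k := by
    intro y hy
    obtain ⟨c, hc⟩ := isConj_iff.1 hy
    have hy2 : y * y = 1 := by rw [← hc, show c * a * c⁻¹ * (c * a * c⁻¹) = c * (a * a) * c⁻¹ by group, ha2, mul_one, mul_inv_cancel]
    obtain ⟨k, m, hm, hkm⟩ := Nat.exists_eq_two_pow_mul_odd (orderOf_pos (a * y)).ne'
    refine ⟨k, ?_⟩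
    set r := (a * y) ^ 2 ^ k with hr
    have hom : orderOf r = m := by
      rw [hr, orderOf_pow_of_dvd (by positivity) (hkm ▸ dvd_mul_right _ _), hkm,
        Nat.mul_div_cancel_left _ (by positivity)]
    have hinv : a * r * a⁻¹ = r⁻¹ := by
      rw [hr, ← conj_pow, ← inv_pow]
      congr 1
      rw [mul_inv_rev, inv_eq_of_mul_eq_one_right ha2, inv_eq_of_mul_eq_one_right hy2,
        ← mul_assoc a a, ha2, one_mul]
    -- a square root of `r⁻¹`
    obtain ⟨j, hj⟩ := hm
    let v := r ^ j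
    have hconj : v * a * v⁻¹ = a * r := by
      have h1 : a * v⁻¹ = v * a := by
        have : a * v * a⁻¹ = v⁻¹ := by rw [← conj_pow, hinv, inv_pow]
        rw [← this, inv_eq_of_mul_eq_one_right ha2]
        simp [← mul_assoc, ha2]
      calc v * a * v⁻¹ = a * v⁻¹ * v⁻¹ := by rw [h1]
        _ = a * r := by
          rw [mul_assoc, ← mul_inv_rev, ← pow_add]
          congr 1
          apply inv_eq_of_mul_eq_one_right
          rw [← pow_succ, show j + j + 1 = 2 * j + 1 by ring, ← hj, ← hom, pow_orderOf_eq_one]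
    have h3 := hcon (a * r) (isConj_iff.2 ⟨v, hconj⟩) (by rw [← mul_assoc, ha2, one_mul, hom]; exact ⟨j, hj⟩)
    rw [← mul_assoc, ha2, one_mul] at h3
    rw [h3, orderOf_one] at hom
    rw [hkm, ← hom, mul_one]
  refine mem_pCore_of_conj_pairs a fun x y hx hy => ?_
  obtain ⟨c, hc⟩ := isConj_iff.1 hx
  obtain ⟨c', hc'⟩ := isConj_iff.1 hy
  let g := c⁻¹
  let z := g * y * g⁻¹
  have hz : IsConj a z := hy.trans (isConj_iff.2 ⟨g, rfl⟩)
  obtain ⟨k, hk⟩ := hpow z hz
  have hz2 : z * z = 1 := by rw [show z * z = g * c' * (a * a) * (g * c')⁻¹ by simp only [z, ← hc']; group]; rw [ha2, mul_one, mul_inv_cancel]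
  -- `⟨a, z⟩` is the product of `⟨a z⟩` and `⟨a⟩`
  let R : Subgroup G := zpowers (a * z)
  have hR : IsPGroup 2 R := IsPGroup.of_card (n := k) (by rw [Nat.card_zpowers, hk])
  have hA : IsPGroup 2 (zpowers a) := IsPGroup.of_card (n := 1) (by rw [Nat.card_zpowers, ha, pow_one])
  have hAN : zpowers a ≤ normalizer (R : Set G) := by
    rw [zpowers_le, ← cj_eq_self_iff, cj, MonoidHom.map_zpowers]
    have : (MulAut.conj a).toMonoidHom (a * z) = (a * z)⁻¹ := by
      show a * (a * z) * a⁻¹ = _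
      rw [mul_inv_rev, inv_eq_of_mul_eq_one_right ha2, inv_eq_of_mul_eq_one_right hz2, ← mul_assoc a a, ha2, one_mul]
    rw [this, zpowers_inv]
  have hsup := hA.to_sup_of_normal_right' hR hAN
  have hle : closure ({a, z} : Set G) ≤ zpowers a ⊔ R := by
    rw [closure_le]
    refine Set.insert_subset (mem_sup_left (mem_zpowers a)) (Set.singleton_subset_iff.2 ?_)
    have : z = a * (a * z) := by rw [← mul_assoc, ha2, one_mul]
    rw [this]
    exact mul_mem (mem_sup_left (mem_zpowers a)) (mem_sup_right (mem_zpowers (a * z)))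
  have h1 := (hsup.to_le hle).map (MulAut.conj c).toMonoidHom
  rw [MonoidHom.map_closure, Set.image_pair] at h1
  have e1 : (MulAut.conj c).toMonoidHom a = x := hc
  have e2 : (MulAut.conj c).toMonoidHom z = y := by simp [z, g, mul_assoc]
  rwa [e1, e2] at h1

end CfsgLib.InvChar
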