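import Mathlib

/-!
`GL (Fin 4) (ZMod 2) ≃* alternatingGroup (Fin 8)`.

`GL_4(2)` acts on alternating `4 × 4` forms by `g • A = g * A * gᵀ`.  There are eight forms `U i` such
that the 28 forms `U i + U j` (`i < j`) are exactly the non-degenerate ones, and every `g` permutes the
index set accordingly.
-/

set_option autoImplicit false

namespace CfsgLib.InvChar.GLFourTwo

open Matrix

abbrev M4 := Matrix (Fin 4) (Fin 4) (ZMod 2)

/-- The eight forms. -/
def formU : Fin 8 → M4 :=
  ![
!![0, 0, 0, 0; 0, 0, 0, 0; 0, 0, 0, 0; 0, 0, 0, 0],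
    !![0, 0, 0, 1; 0, 0, 1, 0; 0, 1, 0, 0; 1, 0, 0, 0],
    !![0, 0, 1, 1; 0, 0, 0, 1; 1, 0, 0, 0; 1, 1, 0, 0],
    !![0, 1, 1, 0; 1, 0, 1, 1; 1, 1, 0, 0; 0, 1, 0, 0],
    !![0, 1, 1, 1; 1, 0, 0, 0; 1, 0, 0, 1; 1, 0, 1, 0],
    !![0, 1, 0, 0; 1, 0, 1, 0; 0, 1, 0, 1; 0, 0, 1, 0],
    !![0, 1, 0, 1; 1, 0, 0, 1; 0, 0, 0, 1; 1, 1, 1, 0],
    !![0, 0, 1, 0; 0, 0, 1, 1; 1, 1, 0, 1; 0, 1, 1, 0]]

/-- The permutation attached to the elementary transvection at `(a, b)`. -/
def permTable : Fin 4 → Fin 4 → Fin 8 → Fin 8 :=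
  ![
![![0, 1, 2, 3, 4, 5, 6, 7],
      ![4, 5, 6, 7, 0, 1, 2, 3],
      ![2, 3, 0, 1, 6, 7, 4, 5],
      ![1, 0, 3, 2, 5, 4, 7, 6]],
    ![![5, 6, 4, 7, 2, 0, 1, 3],
      ![0, 1, 2, 3, 4, 5, 6, 7],
      ![1, 0, 3, 2, 7, 6, 5, 4],
      ![3, 2, 1, 0, 6, 7, 4, 5]],
    ![![7, 2, 1, 5, 6, 3, 4, 0],
      ![1, 0, 7, 6, 5, 4, 3, 2],
      ![0, 1, 2, 3, 4, 5, 6, 7],
      ![5, 4, 6, 7, 1, 0, 2, 3]],
    ![![1, 0, 7, 4, 3, 6, 5, 2],
      ![2, 7, 0, 5, 6, 3, 4, 1],
      ![6, 5, 4, 7, 2, 1, 0, 3],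
      ![0, 1, 2, 3, 4, 5, 6, 7]]]

def elemMat (a b : Fin 4) : M4 := Matrix.of fun i j => if i = j ∨ (i = a ∧ j = b) then 1 else 0

theorem elemMat_eq : ∀ a b : Fin 4, a ≠ b → elemMat a b = Matrix.transvection a b 1 := by
  intro a b h
  ext i j
  simp only [elemMat, Matrix.of_apply, Matrix.transvection, Matrix.add_apply, Matrix.one_apply,
    Matrix.single_apply]
  by_cases h2 : a = i ∧ b = j
  · obtain ⟨rfl, rfl⟩ := h2; simp [h]
  · have h3 : ¬ (i = a ∧ j = b) := fun hh => h2 ⟨hh.1.symm, hh.2.symm⟩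
    simp [h2, h3]

theorem table_eq : ∀ a b : Fin 4, a ≠ b → ∀ i : Fin 8,
    elemMat a b * (formU i + formU 0) * (elemMat a b)ᵀ =
      formU (permTable a b i) + formU (permTable a b 0) := by
  decide +kernel

theorem table_invol : ∀ (a b : Fin 4) (i : Fin 8), permTable a b (permTable a b i) = i := by
  decide +kernel

/-- The table as permutations. -/
def tablePerm (a b : Fin 4) : Equiv.Perm (Fin 8) :=
  ⟨permTable a b, permTable a b, table_invol a b, table_invol a b⟩

theorem sign_table : ∀ a b : Fin 4, Equiv.Perm.sign (tablePerm a b) = 1 := by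
  decide +kernel

/-- The six coordinates of a form, as a number. -/
def code (A : M4) : ℕ :=
  (A 0 1).val + 2 * (A 0 2).val + 4 * (A 0 3).val + 8 * (A 1 2).val + 16 * (A 1 3).val + 32 * (A 2 3).val

theorem pair_inj : ∀ i j k l : Fin 8, i ≠ j → code (formU i + formU j) = code (formU k + formU l) →
    (i = k ∧ j = l) ∨ (i = l ∧ j = k) := by
  decide +kernel

theorem basis_mem : ∀ i j : Fin 4, i ≠ j → ∃ p q r s : Fin 8,
    formU p + formU q + (formU r + formU s) = Matrix.single i j (1 : ZMod 2) + Matrix.single j i 1 := by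
  decide +kernel

/-- `σ` describes the action of `g`. -/
def Compat (g : M4) (σ : Equiv.Perm (Fin 8)) : Prop :=
  ∀ i j, g * (formU i + formU j) * gᵀ = formU (σ i) + formU (σ j)

theorem compat_of_base {g : M4} {σ : Equiv.Perm (Fin 8)}
    (h : ∀ i, g * (formU i + formU 0) * gᵀ = formU (σ i) + formU (σ 0)) : Compat g σ := by
  have two : ∀ A : M4, A + A = 0 := fun A => by ext; exact CharTwo.add_self_eq_zero _
  intro i j
  have e : formU i + formU j = (formU i + formU 0) + (formU j + formU 0) := by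
    rw [add_add_add_comm, two, add_zero]
  rw [e, mul_add, add_mul, h, h, add_add_add_comm, two, add_zero]

theorem Compat.one : Compat 1 1 := fun i j => by simp

theorem Compat.mul {g h : M4} {σ τ : Equiv.Perm (Fin 8)} (hg : Compat g σ) (hh : Compat h τ) :
    Compat (g * h) (σ * τ) := by
  intro i j
  rw [Matrix.transpose_mul, show g * h * (formU i + formU j) * (hᵀ * gᵀ) =
    g * (h * (formU i + formU j) * hᵀ) * gᵀ by simp only [mul_assoc], hh, hg]
  rfl

theorem Compat.unique {g : M4} {σ τ : Equiv.Perm (Fin 8)} (hg : Compat g σ) (hg' : Compat g τ) :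
    σ = τ := by
  have key : ∀ i j, i ≠ j → (σ i = τ i ∧ σ j = τ j) ∨ (σ i = τ j ∧ σ j = τ i) := fun i j hij =>
    pair_inj _ _ _ _ (σ.injective.ne hij) (by rw [← hg, hg'])
  refine Equiv.ext fun i => ?_
  obtain ⟨j, k, hij, hik, hjk⟩ : ∃ j k, i ≠ j ∧ i ≠ k ∧ j ≠ k := by revert i; decide
  rcases key i j hij with h | h
  · exact h.1
  rcases key i k hik with h' | h'
  · exact h'.1
  exact absurd (τ.injective (h.1.symm.trans h'.1)) hjk

theorem exists_compat (g : GL (Fin 4) (ZMod 2)) : ∃ σ : Equiv.Perm (Fin 8),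
    Compat (g : M4) σ ∧ Equiv.Perm.sign σ = 1 := by
  have hdet : det (g : M4) ≠ 0 := g.det_ne_zero
  refine Matrix.diagonal_transvection_induction_of_det_ne_zero
    (fun A : M4 => ∃ σ : Equiv.Perm (Fin 8), Compat A σ ∧ Equiv.Perm.sign σ = 1) (g : M4) hdet ?_ ?_ ?_
  · intro D hD
    have : D = fun _ => 1 := by
      funext i
      rw [det_diagonal, Finset.prod_ne_zero_iff] at hD
      exact Fin.eq_one_of_ne_zero _ (hD i (Finset.mem_univ i))
    exact ⟨1, by rw [this, Matrix.diagonal_one]; exact Compat.one, map_one _⟩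
  · rintro ⟨a, b, hab, c⟩
    rcases eq_or_ne c 0 with rfl | hc
    · exact ⟨1, by simpa [TransvectionStruct.toMatrix] using Compat.one, map_one _⟩
    · obtain rfl : c = 1 := Fin.eq_one_of_ne_zero _ hc
      refine ⟨tablePerm a b, ?_, ?_⟩
      · show Compat (Matrix.transvection a b 1) _
        rw [← elemMat_eq a b hab]
        exact compat_of_base fun i => table_eq a b hab i
      · exact sign_table a b
  · rintro A B - - ⟨σ, hσ, sσ⟩ ⟨τ, hτ, sτ⟩
    exact ⟨σ * τ, hσ.mul hτ, by rw [map_mul, sσ, sτ, mul_one]⟩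

/-- The homomorphism `GL_4(2) → A_8`. -/
noncomputable def hom : GL (Fin 4) (ZMod 2) →* alternatingGroup (Fin 8) where
  toFun g := ⟨(exists_compat g).choose, Equiv.Perm.mem_alternatingGroup.2 (exists_compat g).choose_spec.2⟩
  map_one' := Subtype.ext ((exists_compat 1).choose_spec.1.unique Compat.one)
  map_mul' g h := Subtype.ext ((exists_compat (g * h)).choose_spec.1.unique (by
    rw [Units.val_mul]
    exact (exists_compat g).choose_spec.1.mul (exists_compat h).choose_spec.1))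

theorem hom_injective : Function.Injective hom := by
  rw [injective_iff_map_eq_one]
  intro g hg
  have hc : Compat (g : M4) 1 := by
    have := congrArg Subtype.val hg
    have h1 := (exists_compat g).choose_spec.1
    rwa [show (exists_compat g).choose = 1 from this] at h1
  set A : M4 := (g : M4) with hA
  have hfix : ∀ i j : Fin 4, i ≠ j → ∀ k l : Fin 4,
      A k i * A l j + A k j * A l i =
        (if i = k ∧ j = l then 1 else 0) + (if j = k ∧ i = l then 1 else 0) := by
    intro i j hij k l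
    obtain ⟨p, q, r, s, e⟩ := basis_mem i j hij
    have h := congrArg (fun M : M4 => A * M * Aᵀ) e
    simp only [mul_add, add_mul] at h
    have h1 := hc p q
    have h2 := hc r s
    simp only [Equiv.Perm.one_apply, mul_add, add_mul] at h1 h2
    rw [h1, h2, e] at h
    have := congrFun (congrFun h.symm k) l
    simpa [Matrix.mul_apply, Matrix.single_apply, Finset.sum_ite_eq, Finset.sum_ite_eq', ite_and] using this
  -- the columns are the standard basis vectors
  have hoff : ∀ k i : Fin 4, k ≠ i → A k i = 0 := by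
    intro k i hki
    obtain ⟨j, hij, hkj⟩ : ∃ j, i ≠ j ∧ k ≠ j := by revert k i; decide
    have e1 := hfix i j hij i j
    have e2 := hfix i j hij k i
    have e3 := hfix i j hij k j
    simp [hki.symm, hkj.symm, hij, hij.symm, hki, hkj] at e1 e2 e3
    have h2 : (2 : ZMod 2) = 0 := rfl
    linear_combination (A i i) * e3 + (A j i) * e2 - (A k i) * e1 - h2 * (A i i * A k j * A j i)
  apply Units.ext
  rw [Units.val_one]
  ext k i
  by_cases h : k = i
  · subst h
    obtain ⟨j, hij⟩ : ∃ j, k ≠ j := by revert k; decide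
    have e1 := hfix k j hij k j
    simp [hij.symm, hij, hoff k j hij] at e1
    rw [Matrix.one_apply_eq]
    refine Fin.eq_one_of_ne_zero _ fun h0 => ?_
    simp [show A k k = 0 from h0] at e1
  · rw [Matrix.one_apply_ne h]; exact hoff k i h

theorem card_GL4 : Nat.card (GL (Fin 4) (ZMod 2)) = 20160 := by
  rw [Matrix.card_GL_field]
  simp [Fin.prod_univ_four, ZMod.card]

/-- `GL_4(2) ≅ A_8`. -/
noncomputable def equiv : GL (Fin 4) (ZMod 2) ≃* alternatingGroup (Fin 8) :=
  MulEquiv.ofBijective hom ((Nat.bijective_iff_injective_and_card _).2 ⟨hom_injective, by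
    rw [card_GL4, nat_card_alternatingGroup]; simp [Nat.factorial]⟩)

end CfsgLib.InvChar.GLFourTwo
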