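/-
InvChar: the unipotent radicals, torus and normalizer of the unitriangular group of Sp_{2m}.
-/
import Cfsg.Agent.Lib.ReflectionsSpinor.PSpAutSylow
import Cfsg.Agent.Lib.InvChar.PSLUnitriangular

set_option autoImplicit false
set_option linter.unusedSectionVars false

namespace CfsgLib.InvChar.PSpUnipotent

open Matrix CfsgLib.ReflectionsSpinor.PSpAut CfsgLib.InvChar.PSLUnitriangular

variable {m : ℕ} {F : Type*} [Field F] [Fintype F]

local notation "Mm" => Matrix (Fin m) (Fin m) F
local notation "M2" => Matrix (Fin m ⊕ Fin m) (Fin m ⊕ Fin m) F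
local notation "Sp" => Matrix.symplecticGroup (Fin m) F
local notation "SLm" => Matrix.SpecialLinearGroup (Fin m) F

/-- The lower block-unitriangular symplectic matrix of a symmetric matrix. -/
noncomputable def loS (C : Matrix (Fin m) (Fin m) F) (hC : Cᵀ = C) : Matrix.symplecticGroup (Fin m) F :=
  ⟨Matrix.fromBlocks 1 0 C 1, by
    rw [SymplecticGroup.mem_iff', Matrix.J, Matrix.fromBlocks_transpose, Matrix.fromBlocks_multiply,
      Matrix.fromBlocks_multiply]
    simp [hC]⟩

theorem coe_loS (C : Mm) (hC : Cᵀ = C) : (loS C hC : M2) = Matrix.fromBlocks 1 0 C 1 := rfl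

theorem upS_congr {S S' : Mm} {hS : Sᵀ = S} {hS' : S'ᵀ = S'} (h : S = S') : upS S hS = upS S' hS' := by
  subst h; rfl

theorem upS_add (S S' : Mm) (hS : Sᵀ = S) (hS' : S'ᵀ = S') (h : (S + S')ᵀ = S + S') :
    upS S hS * upS S' hS' = upS (S + S') h := by
  refine Subtype.ext ?_
  rw [Submonoid.coe_mul, coe_upS, coe_upS, coe_upS, Matrix.fromBlocks_multiply]
  simp [add_comm]

theorem loS_add (S S' : Mm) (hS : Sᵀ = S) (hS' : S'ᵀ = S') (h : (S + S')ᵀ = S + S') :
    loS S hS * loS S' hS' = loS (S + S') h := by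
  refine Subtype.ext ?_
  rw [Submonoid.coe_mul, coe_loS, coe_loS, coe_loS, Matrix.fromBlocks_multiply]
  simp

theorem upS_zero (h : (0 : Matrix (Fin m) (Fin m) F)ᵀ = 0) : upS (0 : Mm) h = 1 := by
  refine Subtype.ext ?_
  rw [coe_upS, OneMemClass.coe_one, Matrix.fromBlocks_one]

theorem loS_zero (h : (0 : Matrix (Fin m) (Fin m) F)ᵀ = 0) : loS (0 : Mm) h = 1 := by
  refine Subtype.ext ?_
  rw [coe_loS, OneMemClass.coe_one, Matrix.fromBlocks_one]

theorem smul_symm (c : ℕ) {S : Mm} (hS : Sᵀ = S) : (c • S)ᵀ = c • S := by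
  rw [Matrix.transpose_smul, hS]

theorem upS_pow (S : Mm) (hS : Sᵀ = S) (k : ℕ) : upS S hS ^ k = upS (k • S) (smul_symm k hS) := by
  induction k with
  | zero => rw [pow_zero, upS_congr (zero_nsmul S) (hS' := Matrix.transpose_zero), upS_zero]
  | succ k ih =>
    rw [pow_succ, ih, upS_add _ _ _ _ (by rw [← succ_nsmul, smul_symm _ hS])]
    exact upS_congr (succ_nsmul S k).symm

theorem loS_congr {S S' : Mm} {hS : Sᵀ = S} {hS' : S'ᵀ = S'} (h : S = S') : loS S hS = loS S' hS' := by
  subst h; rfl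

theorem loS_pow (S : Mm) (hS : Sᵀ = S) (k : ℕ) : loS S hS ^ k = loS (k • S) (smul_symm k hS) := by
  induction k with
  | zero => rw [pow_zero, loS_congr (zero_nsmul S) (hS' := Matrix.transpose_zero), loS_zero]
  | succ k ih =>
    rw [pow_succ, ih, loS_add _ _ _ _ (by rw [← succ_nsmul, smul_symm _ hS])]
    exact loS_congr (succ_nsmul S k).symm

theorem nsmul_char (p : ℕ) [CharP F p] (S : Mm) : p • S = 0 := by
  ext i j
  rw [Matrix.smul_apply, nsmul_eq_mul, CharP.cast_eq_zero, zero_mul, Matrix.zero_apply]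

theorem upS_pow_char (p : ℕ) [CharP F p] (S : Mm) (hS : Sᵀ = S) : upS S hS ^ p ^ 1 = 1 := by
  rw [pow_one, upS_pow, upS_congr (nsmul_char p S) (hS' := Matrix.transpose_zero), upS_zero]

theorem loS_pow_char (p : ℕ) [CharP F p] (S : Mm) (hS : Sᵀ = S) : loS S hS ^ p ^ 1 = 1 := by
  rw [pow_one, loS_pow, loS_congr (nsmul_char p S) (hS' := Matrix.transpose_zero), loS_zero]

/-- The Levi embedding of `SL_m`. -/
noncomputable def lev : Matrix.SpecialLinearGroup (Fin m) F →* Matrix.symplecticGroup (Fin m) F where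
  toFun A := blockSp A 0 Matrix.transpose_zero
  map_one' := Subtype.ext (by
    rw [coe_blockSp, inv_one, OneMemClass.coe_one]; simp [Matrix.fromBlocks_one])
  map_mul' A B := Subtype.ext (by
    rw [Submonoid.coe_mul, coe_blockSp, coe_blockSp, coe_blockSp, Matrix.fromBlocks_multiply, _root_.mul_inv_rev,
      Matrix.SpecialLinearGroup.coe_mul, Matrix.SpecialLinearGroup.coe_mul]
    simp [Matrix.transpose_mul])

theorem coe_lev (A : SLm) : (lev A : M2) =
    Matrix.fromBlocks (A : Mm) 0 0 ((A⁻¹ : SLm) : Mm)ᵀ := by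
  show (blockSp A 0 Matrix.transpose_zero : M2) = _
  rw [coe_blockSp, Matrix.mul_zero]

theorem sl_mul_inv (A : SLm) : (A : Mm) * ((A⁻¹ : SLm) : Mm) = 1 := by
  rw [← Matrix.SpecialLinearGroup.coe_mul, mul_inv_cancel, Matrix.SpecialLinearGroup.coe_one]

theorem sl_inv_mul (A : SLm) : ((A⁻¹ : SLm) : Mm) * (A : Mm) = 1 := by
  rw [← Matrix.SpecialLinearGroup.coe_mul, inv_mul_cancel, Matrix.SpecialLinearGroup.coe_one]

theorem congr_symm (A : Mm) {S : Mm} (hS : Sᵀ = S) : (A * S * Aᵀ)ᵀ = A * S * Aᵀ := by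
  rw [Matrix.transpose_mul, Matrix.transpose_mul, Matrix.transpose_transpose, hS, Matrix.mul_assoc]

theorem blockSp_eq (A : SLm) (S : Mm) (hS : Sᵀ = S) : blockSp A S hS = lev A * upS S hS := by
  refine Subtype.ext ?_
  rw [Submonoid.coe_mul, coe_blockSp, coe_lev, coe_upS, Matrix.fromBlocks_multiply]
  simp

theorem lev_conj_upS (A : SLm) (S : Mm) (hS : Sᵀ = S) :
    lev A * upS S hS * (lev A)⁻¹ = upS ((A : Mm) * S * (A : Mm)ᵀ) (congr_symm _ hS) := by
  rw [mul_inv_eq_iff_eq_mul]
  refine Subtype.ext ?_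
  rw [Submonoid.coe_mul, Submonoid.coe_mul, coe_lev, coe_upS, coe_upS, Matrix.fromBlocks_multiply,
    Matrix.fromBlocks_multiply]
  simp [Matrix.mul_assoc, ← Matrix.transpose_mul, sl_inv_mul, -Matrix.SpecialLinearGroup.coe_inv]

/-- A diagonal torus element. -/
noncomputable def td (d : Fin m → F) (hd : ∀ i, d i ≠ 0) : Matrix.symplecticGroup (Fin m) F :=
  ⟨Matrix.fromBlocks (Matrix.diagonal d) 0 0 (Matrix.diagonal fun i => (d i)⁻¹), by
    rw [SymplecticGroup.mem_iff', Matrix.J, Matrix.fromBlocks_transpose, Matrix.fromBlocks_multiply,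
      Matrix.fromBlocks_multiply]
    simp [hd, ← Matrix.diagonal_one, Matrix.diagonal_neg]⟩

theorem coe_td (d : Fin m → F) (hd : ∀ i, d i ≠ 0) :
    (td d hd : M2) = Matrix.fromBlocks (Matrix.diagonal d) 0 0 (Matrix.diagonal fun i => (d i)⁻¹) := rfl

local notation "U" => uniU m F

theorem lev_mem {A : SLm} (hA : A ∈ CfsgLib.ReflectionsSpinor.PSL.upperUni m F) : lev A ∈ U :=
  blockSp_mem Matrix.transpose_zero hA

theorem upS_mem (S : Mm) (hS : Sᵀ = S) : upS S hS ∈ U :=
  blockSp_mem hS (by rw [Matrix.SpecialLinearGroup.coe_one]; exact isUni_one)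

/-- Every element of `uniU` is a product of a unitriangular Levi element and a symmetric one. -/
theorem exists_eq {s : Sp} (hs : s ∈ U) :
    ∃ A ∈ CfsgLib.ReflectionsSpinor.PSL.upperUni m F, ∃ (S : Mm) (hS : Sᵀ = S), s = lev A * upS S hS := by
  obtain ⟨h21, hu⟩ := mem_uniU.1 hs
  have hdet : (s : M2).toBlocks₁₁.det = 1 := by
    rw [Matrix.det_of_isUpperTriangular (show (s : M2).toBlocks₁₁.IsUpperTriangular from
      fun i j (hij : j < i) => by rw [hu i j hij.le, if_neg hij.ne'])]
    exact Finset.prod_eq_one fun i _ => by rw [hu i i le_rfl, if_pos rfl]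
  let A : SLm := ⟨_, hdet⟩
  have hA : A ∈ CfsgLib.ReflectionsSpinor.PSL.upperUni m F := hu
  have hu' : (lev A)⁻¹ * s ∈ U := mul_mem (inv_mem (lev_mem hA)) hs
  obtain ⟨h21', -⟩ := mem_uniU.1 hu'
  obtain ⟨h11, h12⟩ := blocks_of_mem h21'
  set t := (lev A)⁻¹ * s with ht
  have hst : s = lev A * t := by rw [ht, mul_inv_cancel_left]
  have e : (t : M2).toBlocks₁₁ = 1 := by
    have h := congrArg (fun x : Sp => (x : M2)) hst
    simp only [Submonoid.coe_mul, coe_lev] at h
    rw [← Matrix.fromBlocks_toBlocks (t : M2), Matrix.fromBlocks_multiply] at h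
    have h1 : (s : M2).toBlocks₁₁ = (A : Mm) * (t : M2).toBlocks₁₁ := by
      rw [h, Matrix.toBlocks_fromBlocks₁₁]; simp
    have h2 : (A : Mm) = (s : M2).toBlocks₁₁ := rfl
    calc (t : M2).toBlocks₁₁ = ((A⁻¹ : SLm) : Mm) * ((A : Mm) * (t : M2).toBlocks₁₁) := by
          rw [← Matrix.mul_assoc, sl_inv_mul, Matrix.one_mul]
      _ = 1 := by rw [← h1, ← h2, sl_inv_mul]
  rw [e, Matrix.transpose_one, Matrix.one_mul] at h11
  rw [h11, Matrix.transpose_one, Matrix.one_mul, Matrix.mul_one] at h12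
  refine ⟨A, hA, _, h12.symm, ?_⟩
  rw [hst]
  congr 1
  refine Subtype.ext ?_
  rw [coe_upS]
  conv_lhs => rw [← Matrix.fromBlocks_toBlocks (t : M2), e, h11, h21']

variable {l : Fin m}

theorem row_last (hl : (l : ℕ) + 1 = m) {A : SLm} (hA : A ∈ CfsgLib.ReflectionsSpinor.PSL.upperUni m F) (j : Fin m) :
    (A : Mm) l j = if l = j then 1 else 0 :=
  CfsgLib.ReflectionsSpinor.PSL.mem_upperUni.1 hA l j (Fin.le_def.2 (by have := j.2; omega))

/-- The radical of the minimal parabolic of the long simple root. -/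
noncomputable def radL (l : Fin m) (hl : (l : ℕ) + 1 = m) : Subgroup (Matrix.symplecticGroup (Fin m) F) :=
  let S : Submonoid (Matrix.symplecticGroup (Fin m) F) :=
    { carrier := {s | s ∈ uniU m F ∧ (s : Matrix (Fin m ⊕ Fin m) (Fin m ⊕ Fin m) F).toBlocks₁₂ l l = 0}
      one_mem' := ⟨one_mem _, by
        rw [OneMemClass.coe_one, ← Matrix.fromBlocks_one, Matrix.toBlocks_fromBlocks₁₂, Matrix.zero_apply]⟩
      mul_mem' := by
        rintro s t ⟨hs, hs0⟩ ⟨ht, ht0⟩
        refine ⟨mul_mem hs ht, ?_⟩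
        obtain ⟨A, hA, S, hS, rfl⟩ := exists_eq hs
        obtain ⟨B, hB, T, hT, rfl⟩ := exists_eq ht
        rw [← blockSp_eq, coe_blockSp, Matrix.toBlocks_fromBlocks₁₂] at hs0 ht0
        have key : lev A * upS S hS * (lev B * upS T hT) = lev (A * B) *
            (lev B⁻¹ * upS S hS * (lev B⁻¹)⁻¹ * upS T hT) := by
          rw [map_mul, map_inv]; group
        rw [key, lev_conj_upS, upS_add _ _ _ _ (by rw [Matrix.transpose_add, congr_symm _ hS, hT]),
          ← blockSp_eq, coe_blockSp, Matrix.toBlocks_fromBlocks₁₂]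
        have hrow : ∀ {C : SLm}, C ∈ CfsgLib.ReflectionsSpinor.PSL.upperUni m F → ∀ X : Mm,
            ((C : Mm) * X) l l = X l l := fun hC X => by
          rw [Matrix.mul_apply, Finset.sum_eq_single l]
          · rw [row_last hl hC, if_pos rfl, one_mul]
          · intro j _ hj; rw [row_last hl hC, if_neg (Ne.symm hj), zero_mul]
          · simp
        rw [hrow (mul_mem hA hB), Matrix.add_apply, ← hrow hB T, ht0, add_zero, Matrix.mul_assoc,
          hrow (inv_mem hB), Matrix.mul_apply, Finset.sum_eq_single l]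
        · rw [Matrix.transpose_apply, row_last hl (inv_mem hB), if_pos rfl, mul_one, ← hrow hA S, hs0]
        · intro j _ hj
          rw [Matrix.transpose_apply, row_last hl (inv_mem hB), if_neg (Ne.symm hj), mul_zero]
        · simp }
  { S with
    inv_mem' := fun {s} hs => by
      have h : s⁻¹ = s ^ (orderOf s - 1) := by
        refine inv_eq_of_mul_eq_one_left ?_
        rw [← pow_succ, Nat.sub_add_cancel (orderOf_pos s), pow_orderOf_eq_one]
      rw [h]
      exact S.pow_mem hs _ }

variable (hl : (l : ℕ) + 1 = m)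

theorem mem_radL {s : Sp} : s ∈ radL l hl ↔ s ∈ U ∧ (s : M2).toBlocks₁₂ l l = 0 := Iff.rfl

theorem mem_radL_mul {A : SLm} (hA : A ∈ CfsgLib.ReflectionsSpinor.PSL.upperUni m F) {S : Mm} (hS : Sᵀ = S) :
    lev A * upS S hS ∈ radL l hl ↔ S l l = 0 := by
  have h : ((lev A * upS S hS : Sp) : M2).toBlocks₁₂ l l = S l l := by
    rw [← blockSp_eq, coe_blockSp, Matrix.toBlocks_fromBlocks₁₂, Matrix.mul_apply, Finset.sum_eq_single l]
    · rw [row_last hl hA, if_pos rfl, one_mul]
    · intro j _ hj; rw [row_last hl hA, if_neg (Ne.symm hj), zero_mul]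
    · simp
  rw [mem_radL, h]
  exact and_iff_right (mul_mem (lev_mem hA) (upS_mem S hS))

theorem upS_mem_radL {S : Mm} (hS : Sᵀ = S) (h : S l l = 0) : upS S hS ∈ radL l hl := by
  have := (mem_radL_mul hl (one_mem _) hS).2 h
  rwa [map_one, one_mul] at this

theorem lev_mem_radL {A : SLm} (hA : A ∈ CfsgLib.ReflectionsSpinor.PSL.upperUni m F) : lev A ∈ radL l hl := by
  have := (mem_radL_mul hl hA (Matrix.transpose_zero (α := F) (m := Fin m) (n := Fin m))).2 rfl
  rwa [upS_zero, mul_one] at this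

theorem single_symm (a : Fin m) (c : F) : (Matrix.single a a c)ᵀ = Matrix.single a a c := Matrix.transpose_single ..

theorem upS_ll_conj {r : Sp} (hr : r ∈ U) (c : F) (hrad : r ∈ radL l hl) :
    upS (Matrix.single l l c) (single_symm l c) * r * (upS (Matrix.single l l c) (single_symm l c))⁻¹ ∈ radL l hl := by
  obtain ⟨A, hA, S, hS, rfl⟩ := exists_eq hr
  rw [mem_radL_mul hl hA] at hrad
  set E := Matrix.single l l c
  have key : upS E (single_symm l c) * (lev A * upS S hS) * (upS E (single_symm l c))⁻¹ =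
      lev A * (lev A⁻¹ * upS E (single_symm l c) * (lev A⁻¹)⁻¹ * upS S hS * (upS E (single_symm l c))⁻¹) := by
    rw [map_inv]; group
  have hinv : (upS E (single_symm l c))⁻¹ = upS (-E) (by rw [Matrix.transpose_neg, single_symm]) :=
    inv_eq_of_mul_eq_one_right (by
      rw [upS_add _ _ _ _ (by rw [add_neg_cancel, Matrix.transpose_zero]),
        upS_congr (add_neg_cancel E) (hS' := Matrix.transpose_zero), upS_zero])
  rw [key, lev_conj_upS, hinv, upS_add _ _ _ _ (by rw [Matrix.transpose_add, congr_symm _ (single_symm l c), hS]),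
    upS_add _ _ _ _ (by rw [Matrix.transpose_add, Matrix.transpose_add, congr_symm _ (single_symm l c), hS,
      Matrix.transpose_neg, single_symm]), mem_radL_mul hl hA]
  have hc : ((((A⁻¹ : SLm) : Mm)) * E * ((A⁻¹ : SLm) : Mm)ᵀ) l l = c := by
    rw [Matrix.mul_assoc, Matrix.mul_apply, Finset.sum_eq_single l]
    · rw [Matrix.single_mul_apply_same, Matrix.transpose_apply, row_last hl (inv_mem hA), if_pos rfl]; ring
    · intro j _ hj; rw [row_last hl (inv_mem hA), if_neg (Ne.symm hj), zero_mul]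
    · simp
  rw [Matrix.add_apply, Matrix.add_apply, hc, hrad, Matrix.neg_apply, show E l l = c from Matrix.single_apply_same ..]
  ring

theorem loS_conj {r : Sp} (hr : r ∈ radL l hl) (c : F) :
    loS (Matrix.single l l c) (single_symm l c) * r * (loS (Matrix.single l l c) (single_symm l c))⁻¹ ∈ radL l hl := by
  obtain ⟨A, hA, S, hS, rfl⟩ := exists_eq hr.1
  rw [mem_radL_mul hl hA] at hr
  set E := Matrix.single l l c with hE
  set y := loS E (single_symm l c) with hy
  have hEA : ∀ {B : SLm}, B ∈ CfsgLib.ReflectionsSpinor.PSL.upperUni m F → E * (B : Mm) = E := fun {B} hB => by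
    ext i j
    by_cases hi : i = l
    · subst hi
      rw [hE, Matrix.single_mul_apply_same, row_last hl hB, Matrix.single_apply]
      simp
    · rw [hE, Matrix.single_mul_apply_of_ne (h := hi), Matrix.single_apply, if_neg (fun h => hi h.1.symm)]
  have h1 : y * lev A = lev A * y := by
    refine Subtype.ext ?_
    rw [Submonoid.coe_mul, Submonoid.coe_mul, coe_lev, hy, coe_loS, Matrix.fromBlocks_multiply,
      Matrix.fromBlocks_multiply]
    have : ((A⁻¹ : SLm) : Mm)ᵀ * E = E := by
      have h := congrArg Matrix.transpose (hEA (inv_mem hA))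
      rwa [Matrix.transpose_mul, hE, single_symm] at h
    simp [hEA hA, this, -Matrix.SpecialLinearGroup.coe_inv]
  have h2 : y * upS S hS * y⁻¹ ∈ radL l hl := by
    have hinv : y⁻¹ = loS (-E) (by rw [Matrix.transpose_neg, single_symm]) :=
      inv_eq_of_mul_eq_one_right (by
        rw [hy, loS_add _ _ _ _ (by rw [add_neg_cancel, Matrix.transpose_zero]),
          loS_congr (add_neg_cancel E) (hS' := Matrix.transpose_zero), loS_zero])
    have hcoe : ((y * upS S hS * y⁻¹ : Sp) : M2) = Matrix.fromBlocks (1 - S * E) S 0 (1 + E * S) := by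
      rw [hinv, Submonoid.coe_mul, Submonoid.coe_mul, hy, coe_loS, coe_upS, coe_loS, Matrix.fromBlocks_multiply,
        Matrix.fromBlocks_multiply]
      have h0 : E * S * E = 0 := by
        rw [hE, Matrix.mul_assoc]
        ext i j
        by_cases hi : i = l
        · subst hi
          rw [Matrix.single_mul_apply_same]
          by_cases hj : j = i
          · subst hj; rw [Matrix.mul_single_apply_same, hr]; simp
          · rw [Matrix.mul_single_apply_of_ne (hbj := hj)]; simp
        · rw [Matrix.single_mul_apply_of_ne (h := hi)]; rfl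
      simp [Matrix.add_mul, h0, sub_eq_add_neg, add_comm]
    rw [mem_radL, hcoe, Matrix.toBlocks_fromBlocks₁₂]
    refine ⟨?_, hr⟩
    rw [mem_uniU, hcoe, Matrix.toBlocks_fromBlocks₂₁, Matrix.toBlocks_fromBlocks₁₁]
    refine ⟨rfl, fun i j hji => ?_⟩
    rw [Matrix.sub_apply, Matrix.one_apply, hE]
    by_cases hj : j = l
    · subst hj
      have hi : i = j := le_antisymm (Fin.le_def.2 (by have := i.2; omega)) hji
      subst hi
      rw [Matrix.mul_single_apply_same, hr]; simp
    · rw [Matrix.mul_single_apply_of_ne (hbj := hj)]; simp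
  have key : y * (lev A * upS S hS) * y⁻¹ = lev A * (y * upS S hS * y⁻¹) := by
    rw [← mul_assoc, h1]; group
  rw [key]
  exact mul_mem (lev_mem_radL hl hA) h2

theorem td_conj_upS (d : Fin m → F) (hd : ∀ i, d i ≠ 0) (S : Mm) (hS : Sᵀ = S) :
    td d hd * upS S hS * (td d hd)⁻¹ = upS (Matrix.diagonal d * S * (Matrix.diagonal d)ᵀ) (congr_symm _ hS) := by
  rw [mul_inv_eq_iff_eq_mul]
  refine Subtype.ext ?_
  rw [Submonoid.coe_mul, Submonoid.coe_mul, coe_td, coe_upS, coe_upS, Matrix.fromBlocks_multiply,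
    Matrix.fromBlocks_multiply]
  simp [Matrix.mul_assoc, hd]

theorem td_conj_lev (d : Fin m → F) (hd : ∀ i, d i ≠ 0) {A : SLm}
    (hA : A ∈ CfsgLib.ReflectionsSpinor.PSL.upperUni m F) :
    ∃ A' ∈ CfsgLib.ReflectionsSpinor.PSL.upperUni m F, td d hd * lev A * (td d hd)⁻¹ = lev A' := by
  have hdet : (Matrix.diagonal d * (A : Mm) * Matrix.diagonal fun i => (d i)⁻¹).det = 1 := by
    rw [Matrix.det_mul, Matrix.det_mul, A.2, mul_one, Matrix.det_diagonal, Matrix.det_diagonal,
      ← Finset.prod_mul_distrib]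
    exact Finset.prod_eq_one fun i _ => mul_inv_cancel₀ (hd i)
  let A' : SLm := ⟨_, hdet⟩
  have hA'e : ∀ i j, (A' : Mm) i j = d i * (A : Mm) i j * (d j)⁻¹ := fun i j => by
    show (Matrix.diagonal d * (A : Mm) * Matrix.diagonal fun i => (d i)⁻¹) i j = _
    rw [Matrix.mul_diagonal, Matrix.diagonal_mul]
  have hA' : A' ∈ CfsgLib.ReflectionsSpinor.PSL.upperUni m F := by
    refine CfsgLib.ReflectionsSpinor.PSL.mem_upperUni.2 fun i j hji => ?_
    rw [hA'e, CfsgLib.ReflectionsSpinor.PSL.mem_upperUni.1 hA i j hji]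
    by_cases h : i = j
    · subst h; simp [hd]
    · simp [h]
  refine ⟨A', hA', mul_inv_eq_iff_eq_mul.2 (Subtype.ext ?_)⟩
  have hinv : ((A'⁻¹ : SLm) : Mm) = Matrix.diagonal d * ((A⁻¹ : SLm) : Mm) * Matrix.diagonal fun i => (d i)⁻¹ := by
    refine left_inv_eq_right_inv (sl_inv_mul A') ?_
    show (Matrix.diagonal d * (A : Mm) * Matrix.diagonal fun i => (d i)⁻¹) * _ = 1
    simp [Matrix.mul_assoc, hd, -Matrix.SpecialLinearGroup.coe_inv]
    have e : ∀ X : Mm, (Matrix.diagonal fun i => (d i)⁻¹) * (Matrix.diagonal d * X) = X := fun X => by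
      rw [← Matrix.mul_assoc, Matrix.diagonal_mul_diagonal]; simp [hd]
    rw [e, ← Matrix.mul_assoc (A : Mm), sl_mul_inv, Matrix.one_mul]
    simp [hd]
  rw [Submonoid.coe_mul, Submonoid.coe_mul, coe_td, coe_lev, coe_lev, Matrix.fromBlocks_multiply,
    Matrix.fromBlocks_multiply, hinv]
  simp [Matrix.mul_assoc, hd, -Matrix.SpecialLinearGroup.coe_inv, show (A' : Mm) = Matrix.diagonal d * ((A : Mm) * Matrix.diagonal fun i => (d i)⁻¹) from Matrix.mul_assoc ..]

theorem td_conj_uniU (d : Fin m → F) (hd : ∀ i, d i ≠ 0) {r : Sp} (hr : r ∈ U) :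
    td d hd * r * (td d hd)⁻¹ ∈ U := by
  obtain ⟨A, hA, S, hS, rfl⟩ := exists_eq hr
  obtain ⟨A', hA', h'⟩ := td_conj_lev d hd hA
  have key : td d hd * (lev A * upS S hS) * (td d hd)⁻¹ =
      (td d hd * lev A * (td d hd)⁻¹) * (td d hd * upS S hS * (td d hd)⁻¹) := by group
  rw [key, h', td_conj_upS]
  exact mul_mem (lev_mem hA') (upS_mem _ _)

/-- Splitting off the determinant in the last coordinate. -/
theorem td_split (d : Fin m → F) (hd : ∀ i, d i ≠ 0) :
    ∃ (d' : Fin m → F) (hd' : ∏ k, d' k = 1) (D : F) (_hD : D ≠ 0)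
      (hD' : ∀ k, Function.update (1 : Fin m → F) l D k ≠ 0),
      td d hd = lev (dg d' hd') * td (Function.update (1 : Fin m → F) l D) hD' := by
  set D := ∏ k, d k with hDdef
  have hD : D ≠ 0 := Finset.prod_ne_zero_iff.2 fun k _ => hd k
  let d' : Fin m → F := fun k => d k * (Function.update (1 : Fin m → F) l D k)⁻¹
  have hD' : ∀ k, Function.update (1 : Fin m → F) l D k ≠ 0 := fun k => by
    by_cases h : k = l
    · subst h; rw [Function.update_self]; exact hD
    · rw [Function.update_of_ne h]; exact one_ne_zero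
  have hd' : ∏ k, d' k = 1 := by
    rw [Finset.prod_mul_distrib, Finset.prod_inv_distrib, Finset.prod_update_of_mem (Finset.mem_univ l)]
    simp [← hDdef, hD]
  refine ⟨d', hd', D, hD, hD', Subtype.ext ?_⟩
  have hinv : ((dg d' hd')⁻¹ : SLm).1 = Matrix.diagonal fun k => (d' k)⁻¹ :=
    left_inv_eq_right_inv (sl_inv_mul _) (by
      rw [coe_dg, Matrix.diagonal_mul_diagonal, ← Matrix.diagonal_one]
      congr 1
      funext k
      exact mul_inv_cancel₀ (mul_ne_zero (hd k) (inv_ne_zero (hD' k))))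
  rw [Submonoid.coe_mul, coe_td, coe_td, coe_lev, coe_dg, hinv, Matrix.diagonal_transpose,
    Matrix.fromBlocks_multiply]
  simp only [Matrix.diagonal_mul_diagonal, Matrix.mul_zero, Matrix.zero_mul, add_zero, zero_add]
  congr 1 <;> congr 1 <;> funext k <;> simp only [d'] <;> field_simp [hD' k, hd k]

theorem td_eq (c : F) (hc : c ≠ 0) (hD' : ∀ k, Function.update (1 : Fin m → F) l c k ≠ 0) :
    td (Function.update (1 : Fin m → F) l c) hD' =
      loS (Matrix.single l l (c⁻¹ - 1)) (single_symm l _) * upS (Matrix.single l l 1) (single_symm l _) *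
        loS (Matrix.single l l (c - 1)) (single_symm l _) * upS (Matrix.single l l (-c⁻¹)) (single_symm l _) := by
  have hdiag : ∀ x : F, Matrix.diagonal (Function.update (1 : Fin m → F) l x) = 1 + Matrix.single l l (x - 1) := by
    intro x
    ext i j
    rw [Matrix.add_apply, Matrix.one_apply, Matrix.single_apply, Matrix.diagonal_apply]
    by_cases hij : i = j
    · subst hij
      by_cases hi : i = l
      · subst hi; simp
      · simp [hi, Ne.symm hi]
    · rw [if_neg hij, if_neg hij, if_neg (fun h : l = i ∧ l = j => hij (h.1.symm.trans h.2)), add_zero]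
  have hinv : (fun i => (Function.update (1 : Fin m → F) l c i)⁻¹) = Function.update (1 : Fin m → F) l c⁻¹ := by
    funext i
    by_cases hi : i = l
    · subst hi; simp
    · simp [hi]
  refine Subtype.ext ?_
  rw [coe_td, hinv, hdiag, hdiag, Submonoid.coe_mul, Submonoid.coe_mul, Submonoid.coe_mul, coe_loS, coe_loS,
    coe_upS, coe_upS, Matrix.fromBlocks_multiply, Matrix.fromBlocks_multiply, Matrix.fromBlocks_multiply]
  simp only [Matrix.add_mul, Matrix.mul_add, Matrix.one_mul, Matrix.mul_one, Matrix.zero_mul, Matrix.mul_zero,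
    add_zero, zero_add, Matrix.single_mul_single_same]
  congr 1 <;> ext i j <;>
    simp only [Matrix.add_apply, Matrix.single_apply, Matrix.one_apply, Matrix.zero_apply] <;>
    (by_cases h : l = i ∧ l = j
     · obtain ⟨rfl, rfl⟩ := h
       simp
       try field_simp
       try ring
     · simp [h])

/-- The Weyl element of a long root conjugates a short root element of the radical into the Levi subgroup. -/
theorem weyl_conj {a b : Fin m} (hab : a ≠ b) (t : F) (hX : (Matrix.single a b t + Matrix.single b a t)ᵀ =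
    Matrix.single a b t + Matrix.single b a t) :
    upS (Matrix.single b b 1) (single_symm b _) * loS (Matrix.single b b (-1)) (single_symm b _) *
        upS (Matrix.single b b 1) (single_symm b _) * upS _ hX =
      lev (tr hab t) * (upS (Matrix.single b b 1) (single_symm b _) * loS (Matrix.single b b (-1)) (single_symm b _) *
        upS (Matrix.single b b 1) (single_symm b _)) := by
  refine Subtype.ext ?_
  have hinv : (((tr hab t)⁻¹ : SLm) : Mm)ᵀ = 1 + Matrix.single b a (-t) := by
    have h : (tr hab t)⁻¹ = tr hab (-t) :=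
      inv_eq_of_mul_eq_one_right (by rw [tr_add, add_neg_cancel, tr_zero])
    rw [h, coe_tr, Matrix.transvection, Matrix.transpose_add, Matrix.transpose_one, Matrix.transpose_single]
  simp only [Submonoid.coe_mul, coe_upS, coe_loS, coe_lev, coe_tr, hinv, Matrix.transvection,
    Matrix.fromBlocks_multiply]
  simp only [Matrix.add_mul, Matrix.mul_add, Matrix.one_mul, Matrix.mul_one, Matrix.zero_mul, Matrix.mul_zero,
    add_zero, zero_add, Matrix.single_mul_single_same, Matrix.single_mul_single_of_ne _ _ _ _ hab,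
    Matrix.single_mul_single_of_ne _ _ _ _ hab.symm]
  congr 1 <;> ext i j <;> simp only [Matrix.add_apply, Matrix.single_apply, Matrix.one_apply, Matrix.zero_apply] <;>
    by_cases h1 : b = i <;> by_cases h2 : b = j <;> by_cases h3 : a = i <;> by_cases h4 : a = j <;>
    simp_all <;> ring

end CfsgLib.InvChar.PSpUnipotent
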