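import Cfsg.Agent.Lib.InvChar.SymThreeInv

/-!
No automorphisms of order 3 inverted by an involution on a group of order 64 of `U₃(4)`-type.
-/

set_option autoImplicit false
set_option linter.unusedSectionVars false

namespace CfsgLib.InvChar.SymThree

/-- The properties of the Sylow 2-subgroup of `U₃(4)` which are used. -/
structure IsUnitaryType (T : Type*) [Group T] : Prop where
  card_eq : Nat.card T = 64
  card_center : Nat.card (Subgroup.center T) = 4
  sq_center : ∀ g : T, g * g ∈ Subgroup.center T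
  center_sq : ∀ z ∈ Subgroup.center T, z * z = 1
  invol_center : ∀ g : T, g * g = 1 → g ∈ Subgroup.center T
  card_centralizer : ∀ g : T, g ∉ Subgroup.center T → Nat.card (Subgroup.centralizer ({g} : Set T)) ≤ 16

namespace IsUnitaryType

variable {T : Type*} [Group T] [Finite T] (h : IsUnitaryType T)
include h

theorem cm_center (a b : T) : cm a b ∈ Subgroup.center T := by
  have e : cm a b = a⁻¹ * a⁻¹ * (a * b⁻¹ * (a * b⁻¹)) * (b * b) := by simp only [cm]; group
  rw [e]
  exact mul_mem (mul_mem (h.sq_center _) (h.sq_center _)) (h.sq_center _)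

theorem cm_left (a b c : T) : cm (a * b) c = cm a c * cm b c := by
  have e : cm (a * b) c = b⁻¹ * cm a c * (c⁻¹ * b * c) := by simp only [cm]; group
  rw [e, Subgroup.mem_center_iff.1 (h.cm_center a c) b⁻¹]
  simp only [cm]; group

theorem cm_right (a b c : T) : cm a (b * c) = cm a b * cm a c := by
  have e : cm a (b * c) = a⁻¹ * c⁻¹ * a * cm a b * c := by simp only [cm]; group
  rw [e, Subgroup.mem_center_iff.1 (h.cm_center a b) (a⁻¹ * c⁻¹ * a)]
  simp only [cm]; group

theorem cm_symm (a b : T) : cm b a = cm a b := by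
  calc cm b a = (cm a b)⁻¹ := by simp only [cm]; group
    _ = cm a b := inv_eq_of_mul_eq_one_right (h.center_sq _ (h.cm_center a b))

theorem cm_inv (a b : T) : cm a b⁻¹ = cm a b := by
  have h1 := h.cm_right a b b⁻¹
  rw [mul_inv_cancel, show cm a (1 : T) = 1 by simp [cm]] at h1
  rw [eq_inv_of_mul_eq_one_right h1.symm]
  exact inv_eq_of_mul_eq_one_right (h.center_sq _ (h.cm_center a b))

theorem cm_of_center {w : T} (hw : w ∈ Subgroup.center T) (a : T) : cm a w = 1 := by
  rw [cm, mul_assoc a⁻¹, ← Subgroup.mem_center_iff.1 (inv_mem hw) a]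
  group

theorem sq_mul (a b : T) : a * b * (a * b) = a * a * (b * b) * cm b a := by
  have := Subgroup.mem_center_iff.1 (h.cm_center b a) b
  calc a * b * (a * b) = a * (b * a) * b := by group
    _ = a * (a * b * cm b a) * b := by rw [← mul_eq_mul_cm]
    _ = a * a * b * (cm b a * b) := by group
    _ = a * a * b * (b * cm b a) := by rw [this]
    _ = _ := by group

theorem mk_comm (a b : T) :
    (a : T ⧸ Subgroup.center T) * b = (b : T ⧸ Subgroup.center T) * a := by
  rw [← QuotientGroup.mk_mul, ← QuotientGroup.mk_mul, mul_eq_mul_cm a b,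
    QuotientGroup.mk_mul_of_mem _ (h.cm_center a b)]

theorem mk_sq (a : T) : (a : T ⧸ Subgroup.center T) * a = 1 := by
  rw [← QuotientGroup.mk_mul, QuotientGroup.eq_one_iff]
  exact h.sq_center a

theorem mk_inv (a : T) : (a : T ⧸ Subgroup.center T)⁻¹ = a :=
  inv_eq_of_mul_eq_one_right (h.mk_sq a)

/-- At most four cosets of the center centralize a non-central element. -/
theorem not_five {g : T} (hg : g ∉ Subgroup.center T) (f : Fin 5 → T)
    (hc : ∀ i, cm g (f i) = 1) (hinj : Function.Injective fun i => (f i : T ⧸ Subgroup.center T)) :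
    False := by
  have hmem : ∀ (i : Fin 5) (z : Subgroup.center T), f i * z ∈ Subgroup.centralizer ({g} : Set T) := by
    intro i z
    rw [Subgroup.mem_centralizer_singleton_iff]
    have h1 : cm g (f i * z) = 1 := by rw [h.cm_right, hc i, h.cm_of_center z.2, one_mul]
    rw [mul_eq_mul_cm g (f i * z), h1, mul_one]
  have hF : Function.Injective (fun p : Fin 5 × Subgroup.center T =>
      (⟨f p.1 * p.2, hmem p.1 p.2⟩ : Subgroup.centralizer ({g} : Set T))) := by
    rintro ⟨i, z⟩ ⟨j, z'⟩ he
    have he' : f i * z = f j * z' := congrArg Subtype.val he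
    have hq := congrArg (fun t : T => (t : T ⧸ Subgroup.center T)) he'
    simp only [QuotientGroup.mk_mul_of_mem _ z.2, QuotientGroup.mk_mul_of_mem _ z'.2] at hq
    obtain rfl := hinj hq
    exact Prod.ext rfl (Subtype.ext (mul_left_cancel he'))
  have := Nat.card_le_card_of_injective _ hF
  rw [Nat.card_prod, Nat.card_fin, h.card_center] at this
  have := h.card_centralizer g hg
  omega

theorem center_klein {p q : T} (hp : p ∈ Subgroup.center T) (hq : q ∈ Subgroup.center T)
    (hp1 : p ≠ 1) (hq1 : q ≠ 1) (hpq : p ≠ q) :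
    ∀ w ∈ Subgroup.center T, w = 1 ∨ w = p ∨ w = q ∨ w = p * q := by
  have hpq1 : p * q ≠ 1 := fun e => hpq ((eq_inv_of_mul_eq_one_left e).trans
    (inv_eq_of_mul_eq_one_right (h.center_sq q hq)))
  have hs : ({1, p, q, p * q} : Set T) ⊆ (Subgroup.center T : Set T) := by
    rintro y (rfl | rfl | rfl | rfl)
    · exact one_mem _
    · exact hp
    · exact hq
    · exact mul_mem hp hq
  have hn : ({1, p, q, p * q} : Set T).ncard = 4 := by
    rw [Set.ncard_insert_of_notMem (by simp [hp1.symm, hq1.symm, hpq1.symm]),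
      Set.ncard_insert_of_notMem (by simp [hpq, hq1]), Set.ncard_pair (by simp [hp1])]
  have heq : ({1, p, q, p * q} : Set T) = (Subgroup.center T : Set T) :=
    Set.eq_of_subset_of_ncard_le hs (by rw [hn]; exact h.card_center.le) (Set.toFinite _)
  intro w hw
  have : w ∈ ({1, p, q, p * q} : Set T) := heq ▸ hw
  simpa using this

theorem exists_comm_other {a : T} : ∃ c : T, cm a c = 1 ∧ (c : T ⧸ Subgroup.center T) ≠ 1 ∧
    (c : T ⧸ Subgroup.center T) ≠ a := by
  let φ : T →* Subgroup.center T :=
    MonoidHom.mk' (fun t => ⟨cm a t, h.cm_center a t⟩) fun s t => Subtype.ext (h.cm_right a s t)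
  have hr : Nat.card φ.range ≤ 4 := by
    rw [← h.card_center]
    exact Subgroup.card_le_card_group _
  have h1 : Nat.card φ.ker * Nat.card φ.range = 64 := by
    rw [← h.card_eq, Subgroup.card_eq_card_quotient_mul_card_subgroup φ.ker,
      Nat.card_congr (QuotientGroup.quotientKerEquivRange φ).toEquiv, mul_comm]
  by_contra! hne
  have hsub : (φ.ker : Set T) ⊆
      (Subgroup.center T : Set T) ∪ (fun z => a * z) '' (Subgroup.center T : Set T) := by
    intro t ht
    by_cases ht1 : (t : T ⧸ Subgroup.center T) = 1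
    · exact Or.inl ((QuotientGroup.eq_one_iff t).1 ht1)
    · have := hne t (congrArg Subtype.val (MonoidHom.mem_ker.1 ht)) ht1
      exact Or.inr ⟨a⁻¹ * t, QuotientGroup.eq.1 this.symm, mul_inv_cancel_left a t⟩
  have hle : Nat.card φ.ker ≤ 4 + 4 := by
    refine (Set.ncard_le_ncard hsub (Set.toFinite _)).trans ((Set.ncard_union_le _ _).trans ?_)
    have hz : (Subgroup.center T : Set T).ncard = 4 := h.card_center
    rw [Set.ncard_image_of_injective _ (mul_right_injective a), hz]
  nlinarith

variable {ρ : MulAut T} (hρ3 : ∀ y, ρ (ρ (ρ y)) = y)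
include hρ3

/-- An automorphism of order 3 with a nontrivial fixed point is impossible. -/
theorem fixed_point_free (hρ1 : ρ ≠ 1) : ∀ y : T, ρ y = y → y = 1 := by
  by_contra! hex
  obtain ⟨y, hy, hy1⟩ := hex
  obtain ⟨z, hz, hz1, hρz⟩ : ∃ z ∈ Subgroup.center T, z ≠ 1 ∧ ρ z = z := by
    by_cases hyc : y ∈ Subgroup.center T
    · exact ⟨y, hyc, hy1, hy⟩
    · exact ⟨y * y, h.sq_center y, fun e => hyc (h.invol_center y e), by rw [map_mul, hy]⟩
  have hfix : ∀ w ∈ Subgroup.center T, ρ w = w := by
    intro w hw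
    by_cases hw1 : w = 1
    · rw [hw1, map_one]
    by_cases hwz : w = z
    · rw [hwz, hρz]
    rcases h.center_klein hz hw hz1 hw1 (Ne.symm hwz) _ (rho_center (ρ := ρ) hw) with e | e | e | e
    · exact absurd (ρ.injective (e.trans (map_one ρ).symm)) hw1
    · exact absurd (ρ.injective (e.trans hρz.symm)) hwz
    · exact e
    · have e2 : ρ (ρ w) = w := by
        rw [e, map_mul, hρz, e, ← mul_assoc, h.center_sq z hz, one_mul]
      have := congrArg ρ e2
      rw [hρ3] at this
      exact this.symm
  have hcm : ∀ a b, cm (ρ a) (ρ b) = cm a b := fun a b => by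
    rw [cm_map, hfix _ (h.cm_center a b)]
  have hπ : ∀ a b : T, (a : T ⧸ Subgroup.center T) = b →
      (ρ a : T ⧸ Subgroup.center T) = ρ b := fun a b e => by
    rw [QuotientGroup.eq] at e ⊢
    rw [← map_inv, ← map_mul]
    exact rho_center e
  have hπ1 : ∀ a : T, (ρ a : T ⧸ Subgroup.center T) = 1 → (a : T ⧸ Subgroup.center T) = 1 := by
    intro a e
    have e2 := hπ _ _ (hπ (ρ a) 1 (e.trans (QuotientGroup.mk_one _).symm))
    simpa [hρ3] using e2
  have hπ2 : ∀ a : T, (ρ (ρ a) : T ⧸ Subgroup.center T) = a →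
      (ρ a : T ⧸ Subgroup.center T) = a := fun a e => by
    have e2 := hπ _ _ e
    rw [hρ3] at e2
    exact e2.symm
  by_cases hB : ∀ g : T, (ρ g : T ⧸ Subgroup.center T) = g → g ∈ Subgroup.center T
  · -- fixed-point-free on the central quotient
    have hne1 : ∀ a : T, a ∉ Subgroup.center T → (a : T ⧸ Subgroup.center T) ≠ 1 := fun a ha e =>
      ha ((QuotientGroup.eq_one_iff a).1 e)
    have hN : ∀ a : T, a * ρ a * ρ (ρ a) ∈ Subgroup.center T := by
      intro a
      refine hB _ ?_
      simp only [map_mul, hρ3, QuotientGroup.mk_mul]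
      rw [mul_assoc (a : T ⧸ Subgroup.center T), ← QuotientGroup.mk_mul,
        ← QuotientGroup.mk_mul, ← QuotientGroup.mk_mul]
      exact (h.mk_comm a _).symm
    have hsq : ∀ a : T, cm a (ρ a) = a * a := by
      intro a
      have h1 : ρ (ρ a) * ρ (ρ a) = a * a := by
        rw [← map_mul, ← map_mul, hfix _ (h.sq_center a), hfix _ (h.sq_center a)]
      have e : ρ (ρ a) = (a * ρ a)⁻¹ * (a * ρ a * ρ (ρ a)) := by group
      rw [e, h.sq_mul, h.center_sq _ (hN a), h.cm_symm _ (a * ρ a * ρ (ρ a)),
        h.cm_of_center (hN a), mul_one, mul_one, ← mul_inv_rev, h.sq_mul, ← map_mul,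
        hfix _ (h.sq_center a), h.center_sq _ (h.sq_center a), one_mul] at h1
      rw [← h.cm_symm, ← h1, h.cm_symm]
      exact (inv_eq_of_mul_eq_one_right (h.center_sq _ (h.cm_center _ _))).symm
    have hsq1 : ∀ a : T, a ∉ Subgroup.center T → cm a (ρ a) ≠ 1 := fun a ha e =>
      ha (h.invol_center a ((hsq a).symm.trans e))
    have hker : ∀ (a c : T), a ∉ Subgroup.center T → cm a c = 1 →
        (c : T ⧸ Subgroup.center T) ≠ 1 → (c : T ⧸ Subgroup.center T) ≠ a → ∀ t : T, cm a t = 1 →
        (t : T ⧸ Subgroup.center T) = 1 ∨ (t : T ⧸ Subgroup.center T) = a ∨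
        (t : T ⧸ Subgroup.center T) = c ∨ (t : T ⧸ Subgroup.center T) = a * c := by
      intro a c ha hac hc1 hca t ht
      by_contra! hne
      obtain ⟨n1, n2, n3, n4⟩ := hne
      refine h.not_five ha ![1, a, c, a * c, t] ?_ ?_
      · intro i
        fin_cases i
        · simp [cm]
        · simp [cm]
        · exact hac
        · show cm a (a * c) = 1
          rw [h.cm_right, hac, mul_one]; simp [cm]
        · exact ht
      · have A1 : (1 : T ⧸ Subgroup.center T) ≠ a := (hne1 a ha).symm
        have AC : (1 : T ⧸ Subgroup.center T) ≠ a * c := fun e => hca (by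
          rw [← h.mk_inv a]; exact eq_inv_of_mul_eq_one_right e.symm)
        intro i j hij
        fin_cases i <;> fin_cases j <;> first
          | rfl
          | (simp [A1, A1.symm, AC, AC.symm, hc1, hc1.symm, hca, hca.symm, n1, n1.symm, n2, n2.symm,
              n3, n3.symm, n4, n4.symm] at hij)
    have hkey : ∀ (a c : T), a ∉ Subgroup.center T → c ∉ Subgroup.center T → a * c ∉ Subgroup.center T →
        cm a c = 1 → (c : T ⧸ Subgroup.center T) ≠ a → cm a (ρ c) ≠ 1 ∧ cm a (ρ c) ≠ a * a := by
      intro a c ha hc hac' hac hca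
      have hk := hker a c ha hac (hne1 c hc) hca
      have hfixE : ∀ e : T, e ∉ Subgroup.center T → (ρ e : T ⧸ Subgroup.center T) ≠ e :=
        fun e he e' => he (hB e e')
      have hE1 : ∀ e : T, e ∉ Subgroup.center T → (ρ e : T ⧸ Subgroup.center T) ≠ 1 :=
        fun e he e' => hne1 e he (hπ1 e e')
      have hpair : ∀ e d : T, e ∉ Subgroup.center T → (ρ e : T ⧸ Subgroup.center T) = d →
          cm e d = 1 → False := by
        intro e d he hd hed
        obtain ⟨w, hw, hwe⟩ : ∃ w ∈ Subgroup.center T, ρ e = d * w :=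
          ⟨d⁻¹ * ρ e, QuotientGroup.eq.1 hd.symm, (mul_inv_cancel_left d _).symm⟩
        exact hsq1 e he (by rw [hwe, h.cm_right, hed, h.cm_of_center hw, one_mul])
      have haa : cm a a = 1 := by simp [cm]
      have hcc : cm c c = 1 := by simp [cm]
      constructor
      · intro e
        rcases hk _ e with h1 | h1 | h1 | h1
        · exact hE1 c hc h1
        · exact hpair c a hc h1 (by rw [h.cm_symm, hac])
        · exact hfixE c hc h1
        · exact hpair c (a * c) hc (h1.trans (QuotientGroup.mk_mul _ _ _).symm)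
            (by rw [h.cm_right, h.cm_symm, hac, hcc, one_mul])
      · intro e
        have e' : cm a (ρ (a * c)) = 1 := by
          rw [map_mul, h.cm_right, e, hsq, h.center_sq _ (h.sq_center a)]
        rcases hk _ e' with h1 | h1 | h1 | h1
        · exact hE1 _ hac' h1
        · exact hpair (a * c) a hac' h1 (by rw [h.cm_left, haa, h.cm_symm a c, hac, one_mul])
        · exact hpair (a * c) c hac' h1 (by rw [h.cm_left, hcc, hac, one_mul])
        · exact hfixE _ hac' (h1.trans (QuotientGroup.mk_mul _ _ _).symm)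
    obtain ⟨a, ha⟩ : ∃ a : T, a ∉ Subgroup.center T := by
      by_contra! hall
      have := h.card_center
      rw [show Subgroup.center T = ⊤ from eq_top_iff.2 fun t _ => hall t, Subgroup.card_top,
        h.card_eq] at this
      omega
    obtain ⟨c, hac, hc1, hca⟩ := h.exists_comm_other (a := a)
    have hc : c ∉ Subgroup.center T := fun e => hc1 ((QuotientGroup.eq_one_iff c).2 e)
    have hac' : a * c ∉ Subgroup.center T := fun e => hca (by
      have := (QuotientGroup.eq_one_iff (a * c)).2 e
      rw [QuotientGroup.mk_mul] at this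
      rw [← h.mk_inv a]; exact eq_inv_of_mul_eq_one_right this)
    have hca' : c * a ∉ Subgroup.center T := fun e => hac' (by
      rwa [mul_eq_mul_cm c a, h.cm_symm, hac, mul_one] at e)
    obtain ⟨w1, w2⟩ := hkey a c ha hc hac' hac hca
    obtain ⟨v1, v2⟩ := hkey c a hc ha hca' (by rw [h.cm_symm, hac]) (Ne.symm hca)
    -- linearise
    have hlin : cm c (ρ a) = cm a (ρ c) := by
      have e := hsq (a * c)
      rw [h.sq_mul, h.cm_symm a c, hac, mul_one, map_mul, h.cm_left, h.cm_right, h.cm_right,
        hsq, hsq, mul_assoc (a * a), ← mul_assoc (cm a (ρ c)), mul_right_inj] at e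
      have e' := mul_eq_right.1 e
      rw [eq_inv_of_mul_eq_one_right e']
      exact inv_eq_of_mul_eq_one_right (h.center_sq _ (h.cm_center _ _))
    rw [hlin] at v2
    have z1 : a * a ≠ 1 := fun e => ha (h.invol_center a e)
    have z2 : c * c ≠ 1 := fun e => hc (h.invol_center c e)
    have z12 : a * a ≠ c * c := fun e => hac' (h.invol_center _ (by
      rw [h.sq_mul, h.cm_symm a c, hac, mul_one, e, h.center_sq _ (h.sq_center c)]))
    rcases h.center_klein (h.sq_center a) (h.sq_center c) z1 z2 z12 _ (h.cm_center a (ρ c)) with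
      e | e | e | e
    · exact w1 e
    · exact w2 e
    · exact v2 e
    · have hmem : a * ρ c ∈ Subgroup.center T := h.invol_center _ (by
        rw [h.sq_mul, ← map_mul, hfix _ (h.sq_center c), h.cm_symm, e,
          h.center_sq _ (mul_mem (h.sq_center a) (h.sq_center c))])
      have := h.cm_of_center hmem a
      rw [h.cm_right, show cm a a = 1 by simp [cm], one_mul] at this
      exact w1 this
  · -- a fixed coset outside the center
    push Not at hB
    obtain ⟨g, hρg, hg⟩ := hB
    obtain ⟨h', hh'⟩ : ∃ k : T, k⁻¹ * ρ k ∉ Subgroup.center T := by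
      by_contra! hall
      refine hρ1 (MulEquiv.ext fun k => ?_)
      obtain ⟨w, hw, e1⟩ : ∃ w ∈ Subgroup.center T, ρ k = k * w :=
        ⟨_, hall k, (mul_inv_cancel_left k _).symm⟩
      have hρw := hfix _ hw
      have h3 := hρ3 k
      rw [e1, map_mul, hρw, e1, map_mul, map_mul, e1, hρw, mul_assoc k,
        h.center_sq _ hw, mul_one] at h3
      rw [e1, h3]; rfl
    obtain ⟨d, hd⟩ : ∃ d, d = h'⁻¹ * ρ h' := ⟨_, rfl⟩
    rw [← hd] at hh'
    obtain ⟨w, hw, hgw⟩ : ∃ w ∈ Subgroup.center T, ρ g = g * w :=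
      ⟨g⁻¹ * ρ g, QuotientGroup.eq.1 hρg.symm, (mul_inv_cancel_left g _).symm⟩
    have hgt : ∀ t, cm (ρ g) t = cm g t := fun t => by
      rw [hgw, h.cm_left, h.cm_symm t w, h.cm_of_center hw, mul_one]
    have hgd : cm g d = 1 := by
      rw [hd, h.cm_right, h.cm_inv, ← hgt (ρ h'), hcm, h.center_sq _ (h.cm_center _ _)]
    have hgd' : cm g (ρ d) = 1 := by rw [← hgt (ρ d), hcm, hgd]
    refine h.not_five hg ![1, g, d, ρ d, g * d] ?_ ?_
    · intro i
      fin_cases i
      · simp [cm]
      · simp [cm]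
      · exact hgd
      · exact hgd'
      · show cm g (g * d) = 1
        rw [h.cm_right, hgd, mul_one]; simp [cm]
    · have hG1 : (g : T ⧸ Subgroup.center T) ≠ 1 := fun e => hg ((QuotientGroup.eq_one_iff g).1 e)
      have hD1 : (d : T ⧸ Subgroup.center T) ≠ 1 := fun e => hh' ((QuotientGroup.eq_one_iff d).1 e)
      have hD'1 : (ρ d : T ⧸ Subgroup.center T) ≠ 1 := fun e => hD1 (hπ1 d e)
      have hDD : (ρ d : T ⧸ Subgroup.center T) ≠ d := fun e => by
        rw [hd] at e
        simp only [map_mul, map_inv, QuotientGroup.mk_mul, QuotientGroup.mk_inv, h.mk_inv] at e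
        rw [h.mk_comm (ρ h') (ρ (ρ h'))] at e
        have e2 := hπ2 h' (mul_right_cancel e)
        refine hD1 ?_
        rw [hd, QuotientGroup.mk_mul, QuotientGroup.mk_inv, h.mk_inv, e2, h.mk_sq]
      have hGD : (g : T ⧸ Subgroup.center T) ≠ d := fun e => hDD (by
        rw [← hπ g d e, hρg, e])
      have hGD' : (g : T ⧸ Subgroup.center T) ≠ ρ d := fun e => hGD (by
        have e1 := hπ _ _ (hπ g (ρ d) e)
        rw [hπ _ _ hρg, hρg, hρ3] at e1
        exact e1)
      have hGD1 : (1 : T ⧸ Subgroup.center T) ≠ g * d := fun e => hGD (by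
        rw [← h.mk_inv d]; exact eq_inv_of_mul_eq_one_left e.symm)
      have hD'GD : (ρ d : T ⧸ Subgroup.center T) ≠ g * d := fun e => hDD (hπ2 d (by
        have e1 := hπ (ρ d) (g * d) (e.trans (QuotientGroup.mk_mul _ _ _).symm)
        rw [map_mul, QuotientGroup.mk_mul, hρg, e, ← mul_assoc, h.mk_sq, one_mul] at e1
        exact e1))
      intro i j hij
      fin_cases i <;> fin_cases j <;> first
        | rfl
        | (simp [hG1, hG1.symm, hD1, hD1.symm, hD'1, hD'1.symm, hDD, hDD.symm, hGD, hGD.symm, hGD',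
            hGD'.symm, hGD1, hGD1.symm, hD'GD, hD'GD.symm] at hij)

/-- There is no such pair of automorphisms. -/
theorem no_inverting {x : MulAut T} (hρ1 : ρ ≠ 1) (hxx : ∀ y, x (x y) = y)
    (hxρ : ∀ y, x (ρ y) = ρ (ρ (x y))) : False := by
  have hfp := h.fixed_point_free hρ3 hρ1
  have hna : ¬ IsMulCommutative T := fun hc => by
    have := h.card_center
    rw [show Subgroup.center T = ⊤ from eq_top_iff.2 fun t _ => Subgroup.mem_center_iff.2 fun s =>
      isMulCommutative_iff.1 hc s t, Subgroup.card_top, h.card_eq] at this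
    omega
  obtain ⟨c, hcZ, hc1, hxc⟩ := SymThree.exists_c h.card_eq hna hρ3 hfp hxx hxρ
  obtain ⟨u, v, hu, -, hcm⟩ := SymThree.exists_pair h.card_eq hna hρ3 hfp hxx hxρ hcZ hc1 hxc
  exact hc1 (by rw [← hcm, ← h.cm_symm, h.cm_of_center (h.invol_center u hu)])

end IsUnitaryType

end CfsgLib.InvChar.SymThree
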