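/-
InvChar: generation of the pointwise stabiliser of a subspace in the special unitary group.
-/
import Cfsg.Agent.Lib.Geometric.UnitaryGen

set_option autoImplicit false
set_option linter.unusedSectionVars false

open CfsgLib.Geometric CfsgLib.Geometric.Unitary

namespace CfsgLib.InvChar.UnitaryFixGen

variable {ι : Type} [Fintype ι] [DecidableEq ι] {F : Type*} [Field F] [Finite F]
  {σ : F ≃+* F} {f : (ι → F) → (ι → F) → F} (hf : IsSkewForm σ f)

/-- `M` contains the transvections fixing `U₀`. -/
def HasTAt (hf : IsSkewForm σ f) (U₀ : Submodule F (ι → F)) (M : Subgroup (GL ι F)) : Prop :=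
  ∀ (v : ι → F) (hv : f v v = 0) (c : F), σ c = c → v ∈ perp hf U₀ → T hf v c hv ∈ M

/-- `M` contains the Eichler elements fixing `U₀`. -/
def HasE (hf : IsSkewForm σ f) (U₀ : Submodule F (ι → F)) (M : Subgroup (GL ι F)) : Prop :=
  ∀ (u v : ι → F) (c : F) (hu : f u u = 0) (hvu : f v u = 0), u ∈ perp hf U₀ → v ∈ perp hf U₀ →
    c - σ c = f v v → E hf u v c hu hvu ∈ M

include hf

variable {M : Subgroup (GL ι F)}

/-- `M`, containing the Eichler elements at `U₀`, is transitive on the isotropic vectors of `perp U`. -/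
lemma exists_move_fix {U₀ U : Submodule F (ι → F)} (hEM : HasE hf U₀ M) (hU0 : U₀ ≤ U)
    (hS : Cfsg.Geo.IsNondegenerateOn f (perp hf U))
    (hdim : 3 ≤ Module.finrank F (perp hf U)) {x y : ι → F} (hx : x ∈ perp hf U)
    (hy : y ∈ perp hf U) (hxx : f x x = 0) (hyy : f y y = 0) (hx0 : x ≠ 0) (hy0 : y ≠ 0) :
    ∃ h ∈ M, h ∈ isom f ⊓ Cfsg.Geo.specialLinear ι F ∧ (∀ s ∈ U, ap h s = s) ∧ ap h x = y := by
  set S := perp hf U
  have one : ∀ x y, x ∈ S → y ∈ S → f x x = 0 → f y y = 0 → f x y ≠ 0 →
      ∃ h ∈ M, h ∈ isom f ⊓ Cfsg.Geo.specialLinear ι F ∧ (∀ s ∈ U, ap h s = s) ∧ ap h x = y := by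
    intro x y hx hy hxx hyy hxy
    obtain ⟨e, he, hee, hex, hey⟩ := exists_anisotropic_perp_pair hf hS hdim hx hy hxx hyy hxy
    have hli : y ∉ Submodule.span F {x} := by
      intro h
      obtain ⟨c, rfl⟩ := Submodule.mem_span_singleton.mp h
      rw [smul_right hf, hxx, mul_zero] at hxy
      exact hxy rfl
    have hx0 : x ≠ 0 := fun h => hxy (by rw [h, zero_left hf])
    obtain ⟨u, hu, huu, hxu, hyu⟩ := exists_isotropic_common hf hS hx hy hli hx0 he hee hex hey
    obtain ⟨hvu, c, hc, hm⟩ := exists_E_move hf huu hxu hyu (hyy.trans hxx.symm)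
    refine ⟨_, hEM _ _ _ huu hvu (fun s hs => hu s (hU0 hs)) (fun s hs => S.sub_mem hy hx s (hU0 hs)) hc,
      E_mem hf hc, fun s hs => ?_, hm⟩
    rw [ap_E hf, (eq_zero_comm hf).mp (hu s hs),
      (eq_zero_comm hf).mp (S.sub_mem hy hx s hs)]
    simp
  by_cases hxy : f x y = 0
  · have hker : ∀ z, z ∈ S → z ≠ 0 → ¬ S ≤ LinearMap.ker (fl hf z) := by
      intro z hz hz0 hle
      obtain ⟨w, hw, hne⟩ := (hS z hz hz0).1
      exact hne (by simpa using hle hw)
    obtain ⟨p, hp, hpx, hpy⟩ := exists_mem_notMem_notMem (hker x hx hx0) (hker y hy hy0)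
    simp only [LinearMap.mem_ker, fl_apply] at hpx hpy
    obtain ⟨l, hl⟩ := exists_isotropic_shift hf hxx hpx
    set z := p + l • x with hz
    have hzS : z ∈ S := S.add_mem hp (S.smul_mem l hx)
    have hzx : f x z ≠ 0 := by
      rw [hz, add_right hf, smul_right hf, hxx, mul_zero, add_zero]
      exact hpx ∘ (eq_zero_comm hf).mp
    have hzy : f z y ≠ 0 := by
      rwa [hz, hf.add_left, hf.smul_left, hxy, mul_zero, add_zero]
    obtain ⟨h₁, hh₁, hi₁, hf₁, hm₁⟩ := one x z hx hzS hxx hl hzx
    obtain ⟨h₂, hh₂, hi₂, hf₂, hm₂⟩ := one z y hzS hy hl hyy hzy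
    exact ⟨h₂ * h₁, mul_mem hh₂ hh₁, mul_mem hi₂ hi₁,
      fun s hs => by rw [ap_mul, hf₁ s hs, hf₂ s hs], by rw [ap_mul, hm₁, hm₂]⟩
  · exact one x y hx hy hxx hyy hxy

/-- The special isometries fixing `U₀` are generated by its transvections and Eichler elements. -/
theorem le_of_hasE {U₀ : Submodule F (ι → F)} (hU₀ : Cfsg.Geo.IsNondegenerateOn f U₀) (hM : HasTAt hf U₀ M)
    (hEM : HasE hf U₀ M) : ∀ g ∈ isom f ⊓ Cfsg.Geo.specialLinear ι F, (∀ s ∈ U₀, ap g s = s) → g ∈ M := by
  suffices H : ∀ k : ℕ, ∀ U : Submodule F (ι → F), Cfsg.Geo.IsNondegenerateOn f U → U₀ ≤ U →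
      Module.finrank F (perp hf U) = k → ∀ g ∈ isom f ⊓ Cfsg.Geo.specialLinear ι F,
      (∀ s ∈ U, ap g s = s) → g ∈ M from
    fun g hg hfix => H _ U₀ hU₀ le_rfl rfl g hg hfix
  intro k
  induction k using Nat.strong_induction_on with
  | _ k ih =>
    intro U hU hU0 hk g hg hfix
    set S := perp hf U with hSdef
    have hS := perp_nondegenerate hf hU
    have hgS : ∀ {g : GL ι F}, g ∈ isom f → (∀ s ∈ U, ap g s = s) → ∀ x ∈ S, ap g x ∈ S := by
      intro g hg hfix x hx s hs
      rw [← hfix s hs, (mem_isom_iff.mp hg)]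
      exact hx s hs
    have hspan : ∀ z : ι → F, ∃ a ∈ U, z - a ∈ S := exists_sub_mem_perp hf hU
    by_cases hk0 : k = 0
    · have hbot : S = ⊥ := Submodule.finrank_eq_zero.mp (by omega)
      have : g = 1 := gl_ext fun z => by
        obtain ⟨a, ha, hza⟩ := hspan z
        rw [hbot, Submodule.mem_bot, sub_eq_zero] at hza
        rw [ap_one, hza, hfix a ha]
      rw [this]; exact one_mem M
    by_cases hk1 : k = 1
    · obtain ⟨e, he, hee⟩ := exists_anisotropic hf hS fun hb => by
        rw [← hSdef] at hb; rw [hb, finrank_bot] at hk; omega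
      have he0 : e ≠ 0 := fun h => hee (by rw [h, zero_left hf])
      have hSe : Submodule.span F {e} = S := Submodule.eq_of_le_of_finrank_eq
        ((Submodule.span_singleton_le_iff_mem _ _).mpr he)
        (by rw [finrank_span_singleton he0, hk, hk1])
      obtain ⟨μ, hμ⟩ := Submodule.mem_span_singleton.mp (hSe.symm ▸ hgS hg.1 hfix e he)
      set φ : (ι → F) →ₗ[F] F := (f e e)⁻¹ • fl hf e with hφ
      have hlin : ∀ z, ap g z = z + φ z • ((μ - 1) • e) := by
        intro z
        obtain ⟨a, ha, hza⟩ := hspan z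
        obtain ⟨b, hb⟩ := Submodule.mem_span_singleton.mp (hSe.symm ▸ hza)
        have hz : z = a + b • e := by rw [hb]; abel
        have hφz : φ z = b := by
          rw [hz, hφ]
          simp [(eq_zero_comm hf).mp (he a ha), hf.add_left, hf.smul_left]
          field_simp
        rw [hφz, hz, ap_add, ap_smul, hfix a ha, ← hμ]
        module
      have hdet := det_of_ap g _ φ hlin
      rw [(mem_specialLinear_iff g).mp hg.2, map_smul, hφ] at hdet
      simp [hee] at hdet
      have : g = 1 := gl_ext fun z => by rw [hlin z, hdet, ap_one]; simp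
      rw [this]; exact one_mem M
    -- a hyperbolic pair in `S`
    obtain ⟨u, hu, hu0, huu⟩ := exists_isotropic hf hS (by rw [hk]; omega)
    obtain ⟨w₀, hw₀, hwu⟩ := (hS u hu hu0).1
    obtain ⟨l, hl⟩ := exists_isotropic_shift hf (p := (f w₀ u)⁻¹ • w₀) huu (by
      rw [hf.smul_left, inv_mul_cancel₀ hwu]; exact one_ne_zero)
    set w := (f w₀ u)⁻¹ • w₀ + l • u with hwdef
    have hwS : w ∈ S := S.add_mem (S.smul_mem _ hw₀) (S.smul_mem _ hu)
    have hw1 : f w u = 1 := by
      rw [hwdef, hf.add_left, hf.smul_left, hf.smul_left, inv_mul_cancel₀ hwu, huu, mul_zero,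
        add_zero]
    have huw : f u w = -1 := by rw [hf.skew u w, hw1, map_one]
    -- first move the image of `u` back to `u`
    obtain ⟨h₁, hh₁, hi₁, hf₁, hm₁⟩ : ∃ h ∈ M, h ∈ isom f ⊓ Cfsg.Geo.specialLinear ι F ∧
        (∀ s ∈ U, ap h s = s) ∧ ap h (ap g u) = u := by
      by_cases hk3 : 3 ≤ k
      · exact exists_move_fix hf hEM hU0 hS (by rw [← hSdef, hk]; exact hk3) (hgS hg.1 hfix u hu) hu
          (isotropic_ap hf hg.1 huu) huu (ap_ne_zero g hu0) hu0
      have hk2 : k = 2 := by omega
      have hTfix : ∀ (v : ι → F) (hv : f v v = 0) (c : F), v ∈ S →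
          ∀ s ∈ U, ap (T hf v c hv) s = s := fun v hv c hvS s hs =>
        ap_T_fix hf hv ((eq_zero_comm hf).mp (hvS s hs))
      have hvw : f (u - w) (u - w) = 0 := by
        rw [sub_left hf, sub_right hf, sub_right hf, huu, huw, hw1, hl]; ring
      have toU : ∀ r : F, σ r = r → ∃ h ∈ M, h ∈ isom f ⊓ Cfsg.Geo.specialLinear ι F ∧
          (∀ s ∈ U, ap h s = s) ∧ ap h (r • u + w) = u := by
        intro r hr
        refine ⟨T hf (u - w) 1 hvw * T hf u (-r) huu,
          mul_mem (hM _ hvw _ (map_one σ) fun s hs => S.sub_mem hu hwS s (hU0 hs))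
            (hM _ huu _ (by rw [map_neg, hr]) fun s hs => hu s (hU0 hs)),
          mul_mem (T_mem hf hvw (map_one σ)) (T_mem hf huu (by rw [map_neg, hr])),
          fun s hs => ?_, ?_⟩
        · rw [ap_mul, hTfix _ _ _ hu s hs, hTfix _ _ _ (S.sub_mem hu hwS) s hs]
        · have e1 : ap (T hf u (-r) huu) (r • u + w) = w := by
            rw [ap_T hf, hf.add_left, hf.smul_left, huu, hw1]; module
          rw [ap_mul, e1, ap_T hf, sub_right hf, hw1, hl]
          module
      have hsp : S ≤ Submodule.span F {u, w} := by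
        refine (Submodule.eq_of_le_of_finrank_le ?_ ?_).ge
        · rw [Submodule.span_le]
          rintro x (rfl | rfl) <;> assumption
        · have hlt : Submodule.span F {u} < Submodule.span F {u, w} := by
            refine lt_of_le_of_ne (Submodule.span_mono (by simp)) fun he => ?_
            have hm : w ∈ Submodule.span F {u} := by
              rw [he]; exact Submodule.subset_span (by simp)
            obtain ⟨c, hc⟩ := Submodule.mem_span_singleton.mp hm
            rw [← hc, hf.smul_left, huu, mul_zero] at hw1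
            exact zero_ne_one hw1
          have := Submodule.finrank_lt_finrank_of_lt hlt
          rw [finrank_span_singleton hu0] at this
          omega
      have hcoord : ∀ x ∈ S, x = (-f x w) • u + f x u • w := by
        intro x hx
        obtain ⟨p, q, rfl⟩ := Submodule.mem_span_pair.mp (hsp hx)
        simp only [hf.add_left, hf.smul_left, huu, huw, hw1, hl]
        module
      have hgu := hcoord _ (hgS hg.1 hfix u hu)
      set a := -f (ap g u) w
      set b := f (ap g u) u
      have hab : a * σ b = b * σ a := by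
        have h := isotropic_ap hf hg.1 huu
        rw [hgu] at h
        simp only [hf.add_left, add_right hf, hf.smul_left, smul_right hf, huu, huw, hw1, hl] at h
        linear_combination -h
      -- a scalar multiple of `u`
      obtain ⟨μ, h₀, hh₀, hi₀, hf₀, hm₀⟩ : ∃ μ : F, ∃ h ∈ M,
          h ∈ isom f ⊓ Cfsg.Geo.specialLinear ι F ∧
          (∀ s ∈ U, ap h s = s) ∧ ap h (ap g u) = μ • u := by
        by_cases hb : b = 0
        · refine ⟨a, 1, one_mem _, one_mem _, fun s _ => ap_one s, ?_⟩
          rw [ap_one, hgu, hb, zero_smul, add_zero]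
        · obtain ⟨h, hh, hi, hfx, hm⟩ := toU (a / b) (by
            rw [map_div₀]
            field_simp [(EmbeddingLike.map_ne_zero_iff (f := σ)).mpr hb]
            linear_combination -hab)
          refine ⟨b, h, hh, hi, hfx, ?_⟩
          have e : b • ((a / b) • u + w) = a • u + b • w := by
            rw [smul_add, smul_smul, mul_div_cancel₀ _ hb]
          rw [hgu, ← e, ap_smul, hm]
      set g' := h₀ * g with hg'
      have hg'I := mul_mem hi₀ hg
      have hg'fix : ∀ s ∈ U, ap g' s = s := fun s hs => by rw [ap_mul, hfix s hs, hf₀ s hs]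
      have hg'u : ap g' u = μ • u := by rw [ap_mul, hm₀]
      have hμ0 : μ ≠ 0 := by
        intro h
        have := ap_ne_zero g' hu0
        rw [hg'u, h, zero_smul] at this
        exact this rfl
      have hg'w := hcoord _ (hgS hg'I.1 hg'fix w hwS)
      set p := -f (ap g' w) w
      set q := f (ap g' w) u
      have hμq : μ * σ q = 1 := by
        have := (mem_isom_iff.mp hg'I.1) u w
        rw [hg'u, hg'w] at this
        simp only [add_right hf, hf.smul_left, smul_right hf, huu, huw] at this
        linear_combination -this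
      have hq0 : q ≠ 0 := fun h => by rw [h, map_zero, mul_zero] at hμq; exact zero_ne_one hμq
      have hA : 1 + ((-(μ - 1)) • fl hf w) u ≠ 0 := by
        simp [huw, hμ0]
      have hB : 1 + (fl hf u) (ap g' w - w) ≠ 0 := by
        rw [fl_apply, sub_left hf, hw1]
        simpa using hq0
      have heq : g' = dil (ap g' w - w) (fl hf u) hB * dil u ((-(μ - 1)) • fl hf w) hA := by
        apply gl_ext
        intro z
        obtain ⟨s, hs, hz⟩ := hspan z
        have hzd : z = s + ((-f (z - s) w) • u + f (z - s) u • w) := by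
          rw [← hcoord _ hz]; abel
        have e1 : f z u = f (z - s) u := by
          rw [sub_left hf, (eq_zero_comm hf).mp (hu s hs), sub_zero]
        have e2 : f z w = f (z - s) w := by
          rw [sub_left hf, (eq_zero_comm hf).mp (hwS s hs), sub_zero]
        rw [ap_mul (dil _ _ hB), ap_dil, ap_dil]
        simp only [LinearMap.smul_apply, fl_apply, smul_eq_mul, hf.add_left, hf.smul_left, huu,
          e1, e2]
        generalize f (z - s) w = P at *
        generalize f (z - s) u = Q at *
        clear e1 e2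
        subst hzd
        rw [ap_add, ap_add, ap_smul, ap_smul, hg'fix s hs, hg'u]
        module
      have hdet : μ * q = 1 := by
        have h := congrArg (fun g : GL ι F => (g : Matrix ι ι F).det) heq
        simp only [(mem_specialLinear_iff g').mp hg'I.2, Units.val_mul, Matrix.det_mul,
          det_of_ap _ _ _ (ap_dil _ _ hB), det_of_ap _ _ _ (ap_dil _ _ hA), LinearMap.smul_apply,
          fl_apply, smul_eq_mul, huw, sub_left hf, hw1] at h
        linear_combination -h
      have hμfix : σ μ = μ := by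
        have := congrArg σ hμq
        rw [map_mul, hf.involutive, map_one] at this
        exact mul_right_cancel₀ hq0 (this.trans hdet.symm)
      have hμinv : σ (-μ⁻¹) = -μ⁻¹ := by rw [map_neg, map_inv₀, hμfix]
      obtain ⟨h, hh, hi, hfx, hm⟩ := toU μ hμfix
      refine ⟨h * T hf w (-μ⁻¹) hl * h₀,
        mul_mem (mul_mem hh (hM _ hl _ hμinv fun s hs => hwS s (hU0 hs))) hh₀,
        mul_mem (mul_mem hi (T_mem hf hl hμinv)) hi₀, fun s hs => ?_, ?_⟩
      · rw [ap_mul, ap_mul, hf₀ s hs, hTfix _ _ _ hwS s hs, hfx s hs]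
      · rw [ap_mul, ap_mul, hm₀]
        have e1 : ap (T hf w (-μ⁻¹) hl) (μ • u) = μ • u + w := by
          rw [ap_T hf, hf.smul_left, huw, neg_mul, mul_neg, mul_neg, neg_neg, mul_one,
            inv_mul_cancel₀ hμ0, one_smul]
        rw [e1, hm]
    -- then fix the second vector
    set g₁ := h₁ * g with hg₁
    have hg₁I := mul_mem hi₁ hg
    have hg₁fix : ∀ s ∈ U, ap g₁ s = s := fun s hs => by rw [ap_mul, hfix s hs, hf₁ s hs]
    have hg₁u : ap g₁ u = u := by rw [ap_mul, hm₁]
    set w' := ap g₁ w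
    have hw'S := hgS hg₁I.1 hg₁fix w hwS
    obtain ⟨hvu, c, hc, hm⟩ := exists_E_move hf (w := w') (y := w) huu
      (by rw [← hg₁u, (mem_isom_iff.mp hg₁I.1), hw1]) hw1
      (by rw [(mem_isom_iff.mp hg₁I.1)])
    set h₂ := E hf u (w - w') c huu hvu
    have hh₂ : h₂ ∈ M :=
      hEM _ _ _ huu hvu (fun s hs => hu s (hU0 hs)) (fun s hs => S.sub_mem hwS hw'S s (hU0 hs)) hc
    have hh₂u : ap h₂ u = u := by
      simp [h₂, ap_E hf, huu, (eq_zero_comm hf).mp hvu]
    have hh₂U : ∀ s ∈ U, ap h₂ s = s := fun s hs => by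
      rw [ap_E hf, (eq_zero_comm hf).mp (hu s hs),
        (eq_zero_comm hf).mp (S.sub_mem hwS hw'S s hs)]
      simp
    set U' := U ⊔ Submodule.span F {u, w} with hU'
    have hfix' : ∀ s ∈ U', ap (h₂ * g₁) s = s := by
      intro s hs
      obtain ⟨a, ha, b, hb, rfl⟩ := Submodule.mem_sup.mp hs
      obtain ⟨p, q, rfl⟩ := Submodule.mem_span_pair.mp hb
      simp only [ap_add, ap_smul, ap_mul, hg₁fix a ha, hh₂U a ha, hg₁u, hh₂u]
      rw [show ap g₁ w = w' from rfl, hm]
    have hU'n : Cfsg.Geo.IsNondegenerateOn f U' := by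
      intro x hx hne
      suffices hs : ∃ y ∈ U', f y x ≠ 0 by
        obtain ⟨y, hy, hyx⟩ := hs
        exact ⟨⟨y, hy, hyx⟩, ⟨y, hy, hyx ∘ (eq_zero_comm hf).mp⟩⟩
      obtain ⟨s, hs, t, ht, rfl⟩ := Submodule.mem_sup.mp hx
      obtain ⟨p, q, rfl⟩ := Submodule.mem_span_pair.mp ht
      by_contra hcon
      push Not at hcon
      have h1 := hcon u (Submodule.mem_sup_right (Submodule.subset_span (by simp)))
      have h2 := hcon w (Submodule.mem_sup_right (Submodule.subset_span (by simp)))
      simp only [add_right hf, smul_right hf, huu, hl, huw, hw1, hu s hs, hwS s hs] at h1 h2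
      have hp : p = 0 := (EmbeddingLike.map_eq_zero_iff (f := σ)).mp (by linear_combination h2)
      have hq : q = 0 := (EmbeddingLike.map_eq_zero_iff (f := σ)).mp (by linear_combination -h1)
      subst hp hq
      by_cases hs0 : s = 0
      · simp [hs0] at hne
      · obtain ⟨y, hy, hys⟩ := (hU s hs hs0).1
        have := hcon y (Submodule.mem_sup_left hy)
        simp at this
        exact hys this
    have hlt : Module.finrank F (perp hf U') < k := by
      have h1 := finrank_add_perp hf hU
      have h2 := finrank_add_perp hf hU'n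
      have h3 : U < U' := by
        refine lt_of_le_of_ne le_sup_left fun he => ?_
        have hm : u ∈ U := he ▸ Submodule.mem_sup_right (Submodule.subset_span (by simp))
        have h0 : u ∈ U ⊓ perp hf U := ⟨hm, hu⟩
        rw [inf_perp_eq_bot hf hU, Submodule.mem_bot] at h0
        exact hu0 h0
      have h4 := Submodule.finrank_lt_finrank_of_lt h3
      rw [hSdef] at hk
      omega
    have hfin := ih _ hlt U' hU'n (hU0.trans le_sup_left) rfl _ (mul_mem (E_mem hf hc) hg₁I) hfix'
    have := mul_mem (inv_mem hh₁) (mul_mem (inv_mem hh₂) hfin)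
    simpa [g₁, h₂, mul_assoc] using this

end CfsgLib.InvChar.UnitaryFixGen
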