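import Cfsg.Prelude.Def_Classical
import Cfsg.Agent.Lib.ClassicalForms.Unitary.Center

/-!
An explicit Sylow 2-subgroup of `PSU₃(4)`: pairs `(a, b)` over the field with 16 elements with
`b + b ^ 4 = a ^ 5`.
-/

set_option autoImplicit false
set_option linter.unusedSectionVars false

namespace CfsgLib.InvChar.UnitaryFour

variable {F : Type*} [Field F] [Fintype F]

/-- The parameter set. -/
def Param (F : Type*) [Field F] : Set (F × F) := {p | p.2 + p.2 ^ 4 = p.1 ^ 5}

/-- The composition law on parameters. -/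
def op (p q : F × F) : F × F := (p.1 + q.1, p.2 + q.2 + p.1 ^ 4 * q.1)

theorem two_eq_zero (hF : Fintype.card F = 16) : (2 : F) = 0 := by
  have : ringChar F = 2 := by rw [FiniteField.even_card_iff_char_two, hF]
  have : CharP F 2 := by rw [← this]; exact ringChar.charP F
  exact CharTwo.two_eq_zero

theorem pow_sixteen (hF : Fintype.card F = 16) (x : F) : x ^ 16 = x := hF ▸ FiniteField.pow_card x

theorem add_pow_four (hF : Fintype.card F = 16) (x y : F) : (x + y) ^ 4 = x ^ 4 + y ^ 4 := by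
  linear_combination (2 * x ^ 3 * y + 3 * x ^ 2 * y ^ 2 + 2 * x * y ^ 3) * two_eq_zero hF

theorem op_mem (hF : Fintype.card F = 16) {p q : F × F} (hp : p ∈ Param F) (hq : q ∈ Param F) :
    op p q ∈ Param F := by
  simp only [Param, Set.mem_ofPred_eq, op] at *
  have h4 : (p.1 ^ 4) ^ 4 = p.1 := by rw [← pow_mul]; exact pow_sixteen hF p.1
  rw [add_pow_four hF, add_pow_four hF, mul_pow, h4,
    show (p.1 + q.1) ^ 5 = (p.1 + q.1) ^ 4 * (p.1 + q.1) from pow_succ _ _, add_pow_four hF]
  linear_combination hp + hq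

theorem ncard_fixed_le [DecidableEq F] : {t : F | t ^ 4 = t}.ncard ≤ 4 := by
  classical
  have hne : (Polynomial.X ^ 4 - Polynomial.X : Polynomial F) ≠ 0 :=
    FiniteField.X_pow_card_sub_X_ne_zero F (by norm_num)
  have hsub : {t : F | t ^ 4 = t} ⊆
      (((Polynomial.X ^ 4 - Polynomial.X : Polynomial F).roots.toFinset : Finset F) : Set F) := by
    intro t ht
    rw [Finset.mem_coe, Multiset.mem_toFinset, Polynomial.mem_roots hne]
    simpa [sub_eq_zero] using ht
  calc {t : F | t ^ 4 = t}.ncard ≤ _ := Set.ncard_le_ncard hsub (Finset.finite_toSet _)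
    _ = _ := Set.ncard_coe_finset _
    _ ≤ _ := Multiset.toFinset_card_le _
    _ ≤ _ := Polynomial.card_roots' _
    _ ≤ 4 := by rw [FiniteField.X_pow_card_sub_X_natDegree_eq F (by norm_num)]

/-- The additive map `b ↦ b + b ^ 4`. -/
def psi (hF : Fintype.card F = 16) : F →+ F where
  toFun b := b + b ^ 4
  map_zero' := by simp
  map_add' x y := by rw [add_pow_four hF]; abel

theorem psi_range_ker (hF : Fintype.card F = 16) :
    (∀ y : F, y ^ 4 = y → ∃ b, psi hF b = y) ∧ Nat.card (psi hF).ker = 4 ∧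
      (∀ b, b ∈ (psi hF).ker ↔ b ^ 4 = b) ∧ {t : F | t ^ 4 = t}.ncard = 4 := by
  classical
  have hker : ∀ b, b ∈ (psi hF).ker ↔ b ^ 4 = b := fun b => by
    rw [AddMonoidHom.mem_ker]
    constructor
    · intro h
      change b + b ^ 4 = 0 at h
      linear_combination h - b * two_eq_zero hF
    · intro h
      show b + b ^ 4 = 0
      linear_combination h + b * two_eq_zero hF
  have hk : Nat.card (psi hF).ker ≤ 4 := by
    refine le_trans (le_of_eq ?_) (ncard_fixed_le (F := F))
    exact Nat.card_congr (Equiv.subtypeEquivRight hker)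
  have hr : ((psi hF).range : Set F) ⊆ {t : F | t ^ 4 = t} := by
    rintro y ⟨b, rfl⟩
    show (b + b ^ 4) ^ 4 = b + b ^ 4
    rw [add_pow_four hF, ← pow_mul, pow_sixteen hF]
    ring
  have hr4 : Nat.card (psi hF).range ≤ 4 :=
    (Set.ncard_le_ncard hr (Set.toFinite _)).trans (ncard_fixed_le (F := F))
  have hprod : Nat.card (psi hF).ker * Nat.card (psi hF).range = 16 := by
    rw [← hF, ← Nat.card_eq_fintype_card (α := F),
      AddSubgroup.card_eq_card_quotient_mul_card_addSubgroup (psi hF).ker,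
      Nat.card_congr (QuotientAddGroup.quotientKerEquivRange (psi hF)).toEquiv, mul_comm]
  have hk4 : Nat.card (psi hF).ker = 4 := by nlinarith
  have hr' : Nat.card (psi hF).range = 4 := by nlinarith
  have heq : ((psi hF).range : Set F) = {t : F | t ^ 4 = t} :=
    Set.eq_of_subset_of_ncard_le hr ((ncard_fixed_le (F := F)).trans hr'.ge) (Set.toFinite _)
  refine ⟨fun y hy => ?_, hk4, hker, ?_⟩
  · have : y ∈ ((psi hF).range : Set F) := by rw [heq]; exact hy
    exact this
  · rw [← heq]; exact hr'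

theorem card_fiber (hF : Fintype.card F = 16) (a : F) :
    Nat.card {b : F // (a, b) ∈ Param F} = 4 := by
  obtain ⟨hsur, hk, -, -⟩ := psi_range_ker hF
  obtain ⟨b₀, hb⟩ := hsur (a ^ 5) (by
    rw [← pow_mul, show 5 * 4 = 16 + 4 from rfl, pow_add, pow_sixteen hF]; ring)
  rw [← hk]
  exact Nat.card_congr
    { toFun := fun b => ⟨b.1 - b₀, by
        rw [AddMonoidHom.mem_ker, map_sub, hb]
        exact sub_eq_zero.2 b.2⟩
      invFun := fun k => ⟨k.1 + b₀, by
        show psi hF (k.1 + b₀) = a ^ 5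
        rw [map_add, hb, AddMonoidHom.mem_ker.1 k.2, zero_add]⟩
      left_inv := fun b => by simp
      right_inv := fun k => by simp }

theorem card_param (hF : Fintype.card F = 16) : Nat.card (Param F) = 64 := by
  have e : (Param F) ≃ (a : F) × {b : F // (a, b) ∈ Param F} :=
    { toFun := fun p => ⟨p.1.1, p.1.2, p.2⟩
      invFun := fun p => ⟨(p.1, p.2.1), p.2.2⟩
      left_inv := fun p => rfl
      right_inv := fun p => rfl }
  rw [Nat.card_congr e, Nat.card_sigma]
  simp only [card_fiber hF, Finset.sum_const, Finset.card_univ, hF, smul_eq_mul]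

/-- The matrix attached to a parameter. -/
def mat (p : F × F) : Matrix (Fin 3) (Fin 3) F :=
  !![1 + p.2, p.2, p.1 ^ 4; p.2, 1 + p.2, p.1 ^ 4; p.1, p.1, 1]

theorem det_mat (hF : Fintype.card F = 16) (p : F × F) : (mat p).det = 1 := by
  simp only [mat, Matrix.det_fin_three]
  simp
  linear_combination (p.2 - p.1 ^ 5) * two_eq_zero hF

/-- The special linear element attached to a parameter. -/
def slMat (hF : Fintype.card F = 16) (p : F × F) : Matrix.SpecialLinearGroup (Fin 3) F :=
  ⟨mat p, det_mat hF p⟩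

theorem slMat_mem (hF : Fintype.card F = 16) {p : F × F} (hp : p ∈ Param F) :
    slMat hF p ∈ Cfsg.SU 3 F 4 := by
  intro u v
  have hp' : p.2 + p.2 ^ 4 = p.1 ^ 5 := hp
  have h4 : (p.1 ^ 4) ^ 4 = p.1 := by rw [← pow_mul]; exact pow_sixteen hF p.1
  show Cfsg.hermForm 3 F 4 ((mat p).mulVec u) ((mat p).mulVec v) = _
  simp only [Cfsg.hermForm, Fin.sum_univ_three, mat, Matrix.mulVec, dotProduct]
  simp
  simp only [add_pow_four hF, mul_pow, h4, one_pow]
  linear_combination ((u 0 + u 1) * (v 0 ^ 4 + v 1 ^ 4)) * hp' +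
    ((u 0 + u 1) * (v 0 ^ 4 + v 1 ^ 4) * (p.2 * p.2 ^ 4 + p.1 ^ 5)
      + (u 0 + u 1) * p.1 * v 2 ^ 4 * (p.2 + 1) + u 2 * p.1 ^ 4 * (v 0 ^ 4 + v 1 ^ 4) * (p.2 ^ 4 + 1)
      + u 2 * v 2 ^ 4 * p.1 ^ 5) * two_eq_zero hF

theorem mat_op (hF : Fintype.card F = 16) (p q : F × F) : mat p * mat q = mat (op p q) := by
  have h2 := two_eq_zero hF
  ext i j
  fin_cases i <;> fin_cases j <;>
    simp [mat, op, Matrix.mul_apply, Fin.sum_univ_three] <;>
    first
      | linear_combination (p.2 * q.2) * h2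
      | linear_combination (p.1 * q.2) * h2
      | linear_combination (p.1 * q.1 ^ 4) * h2
      | (rw [add_pow_four hF]; linear_combination (p.2 * q.1 ^ 4) * h2)

theorem card_psu (hF : Fintype.card F = 16) : Nat.card (Cfsg.PSU 3 F 4) = 62400 := by
  have hF' : Nat.card F = 4 ^ 2 := by rw [Nat.card_eq_fintype_card, hF]; norm_num
  have h := CfsgLib.ClassicalForms.card_psu_mul hF' (n := 3) (by norm_num)
  rw [CfsgLib.ClassicalForms.card_gu hF' 3] at h
  simp only [Finset.prod_range_succ, Finset.prod_range_zero, one_mul] at h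
  rw [if_pos (by decide), if_neg (by decide), if_pos (by decide)] at h
  norm_num [-Nat.card_eq_fintype_card] at h
  omega

/-- A bijective multiplicative parametrisation of every Sylow 2-subgroup of `PSU₃(4)`. -/
theorem exists_param (hF : Fintype.card F = 16) (S : Sylow 2 (Cfsg.PSU 3 F 4)) :
    ∃ e : Param F ≃ ↥(S : Subgroup (Cfsg.PSU 3 F 4)),
      ∀ p q : Param F, e p * e q = e ⟨op p.1 q.1, op_mem hF p.2 q.2⟩ := by
  classical
  have : Fact (Nat.Prime 2) := ⟨Nat.prime_two⟩
  let g : Param F → Cfsg.PSU 3 F 4 := fun p =>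
    QuotientGroup.mk (⟨slMat hF p.1, slMat_mem hF p.2⟩ : Cfsg.SU 3 F 4)
  have gmul : ∀ p q : Param F, g p * g q = g ⟨op p.1 q.1, op_mem hF p.2 q.2⟩ := fun p q => by
    simp only [g, ← QuotientGroup.mk_mul]
    congr 1
    exact Subtype.ext (Subtype.ext (mat_op hF p.1 q.1))
  have hF' : Nat.card F = 4 ^ 2 := by rw [Nat.card_eq_fintype_card, hF]; norm_num
  have hc : Nat.card (Subgroup.center (Cfsg.SU 3 F 4)) = 1 := by
    rw [CfsgLib.ClassicalForms.card_center_su hF' (by norm_num)]; decide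
  have ginj : Function.Injective g := fun p q h => by
    have := QuotientGroup.eq.1 h
    rw [Subgroup.card_eq_one.1 hc, Subgroup.mem_bot, inv_mul_eq_one] at this
    have hm : mat p.1 = mat q.1 := congrArg (fun s : Cfsg.SU 3 F 4 => ((s : Matrix.SpecialLinearGroup (Fin 3) F) : Matrix (Fin 3) (Fin 3) F)) this
    have h1 := congrFun (congrFun hm 2) 0
    have h2 := congrFun (congrFun hm 0) 1
    simp [mat] at h1 h2
    exact Subtype.ext (Prod.ext h1 h2)
  let S₀ : Submonoid (Cfsg.PSU 3 F 4) :=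
    { carrier := Set.range g
      one_mem' := ⟨⟨(0, 0), by simp [Param]⟩, by
        refine QuotientGroup.eq.2 ?_
        have : (⟨slMat hF ((0, 0) : F × F), slMat_mem hF (by simp [Param])⟩ : Cfsg.SU 3 F 4) = 1 :=
          Subtype.ext (Subtype.ext (by
            show mat ((0, 0) : F × F) = 1
            ext i j; fin_cases i <;> fin_cases j <;> simp [mat]))
        rw [this]; simp⟩
      mul_mem' := by
        rintro _ _ ⟨p, rfl⟩ ⟨q, rfl⟩
        exact ⟨_, (gmul p q).symm⟩ }
  have hinv : ∀ {x : Cfsg.PSU 3 F 4}, x ∈ S₀ → x⁻¹ ∈ S₀ := fun {x} hx => by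
    have h := pow_mem hx (orderOf x - 1)
    rwa [show x⁻¹ = x ^ (orderOf x - 1) from inv_eq_of_mul_eq_one_left (by
      rw [← pow_succ, Nat.sub_add_cancel (orderOf_pos x), pow_orderOf_eq_one])]
  let G₀ : Subgroup (Cfsg.PSU 3 F 4) := { S₀ with inv_mem' := hinv }
  have hcard : Nat.card G₀ = 64 := by
    show Nat.card (Set.range g) = 64
    rw [Nat.card_range_of_injective ginj, card_param hF]
  have hf : Nat.factorization 62400 2 = 6 := by
    rw [show 62400 = 2 ^ 6 * 975 from rfl, Nat.factorization_mul (by norm_num) (by norm_num),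
      Nat.Prime.factorization_pow Nat.prime_two, Finsupp.add_apply, Finsupp.single_eq_same,
      Nat.factorization_eq_zero_of_not_dvd (show ¬ 2 ∣ 975 by norm_num)]
  let P : Sylow 2 (Cfsg.PSU 3 F 4) := Sylow.ofCard G₀ (by rw [hcard, card_psu hF, hf]; rfl)
  let e₁ : Param F ≃ ↥(P : Subgroup (Cfsg.PSU 3 F 4)) := Equiv.ofInjective g ginj
  have hh := Sylow.equiv P S
  refine ⟨e₁.trans hh.toEquiv, fun p q => ?_⟩
  show hh (e₁ p) * hh (e₁ q) = hh (e₁ _)
  rw [← map_mul]
  exact congrArg hh (Subtype.ext (gmul p q))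

end CfsgLib.InvChar.UnitaryFour
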