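import Cfsg.Agent.Lib.InvChar.UnitaryFour
import Cfsg.Agent.Lib.InvChar.SymThreeUnitary

/-!
The Sylow 2-subgroups of `PSU₃(4)` have the structure `IsUnitaryType`.
-/

set_option autoImplicit false
set_option linter.unusedSectionVars false

namespace CfsgLib.InvChar.UnitaryFour

variable {F : Type*} [Field F] [Fintype F] {S : Type*} [Group S]

section
variable (hF : Fintype.card F = 16) (e : Param F ≃ S)
  (he : ∀ p q : Param F, e p * e q = e ⟨op p.1 q.1, op_mem hF p.2 q.2⟩)
include hF he

theorem param_zero : ((0, 0) : F × F) ∈ Param F := by simp [Param]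

theorem map_zero_param : e ⟨(0, 0), param_zero hF e he⟩ = 1 := by
  have h := he ⟨(0, 0), param_zero hF e he⟩ ⟨(0, 0), param_zero hF e he⟩
  simp [op] at h
  exact h

theorem commute_iff (p q : Param F) :
    e p * e q = e q * e p ↔ p.1.1 ^ 4 * q.1.1 = q.1.1 ^ 4 * p.1.1 := by
  rw [he, he, e.injective.eq_iff, Subtype.mk_eq_mk]
  simp only [op, Prod.mk.injEq]
  constructor
  · rintro ⟨-, h⟩
    linear_combination h
  · intro h
    exact ⟨add_comm _ _, by linear_combination h⟩

theorem exists_not_commute {p : Param F} (hp : p.1.1 ≠ 0) : ∃ q, e p * e q ≠ e q * e p := by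
  obtain ⟨t, ht⟩ : ∃ t : F, t ^ 4 ≠ t := by
    by_contra! h
    have h4 := (psi_range_ker hF).2.2.2
    rw [show {t : F | t ^ 4 = t} = Set.univ from Set.eq_univ_of_forall h, Set.ncard_univ,
      Nat.card_eq_fintype_card, hF] at h4
    omega
  obtain ⟨⟨b, hb⟩⟩ : Nonempty {b : F // (t * p.1.1, b) ∈ Param F} :=
    (Nat.card_pos_iff.1 (by rw [card_fiber hF]; norm_num)).1
  refine ⟨⟨(t * p.1.1, b), hb⟩, fun h => ht ?_⟩
  rw [commute_iff hF e he] at h
  have h' : (t ^ 4 - t) * p.1.1 ^ 5 = 0 := by linear_combination -h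
  exact sub_eq_zero.1 ((mul_eq_zero.1 h').resolve_right (pow_ne_zero _ hp))

theorem mem_center_iff (p : Param F) : e p ∈ Subgroup.center S ↔ p.1.1 = 0 := by
  constructor
  · intro h
    by_contra hp
    obtain ⟨q, hq⟩ := exists_not_commute hF e he hp
    exact hq (Subgroup.mem_center_iff.1 h (e q)).symm
  · intro hp
    refine Subgroup.mem_center_iff.2 fun s => ?_
    obtain ⟨q, rfl⟩ := e.surjective s
    rw [commute_iff hF e he, hp]
    simp

theorem sq_eq (p : Param F) : e p * e p = 1 ↔ p.1.1 = 0 := by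
  rw [he, ← map_zero_param hF e he, e.injective.eq_iff, Subtype.mk_eq_mk]
  have h2 := two_eq_zero hF
  simp only [op, Prod.mk.injEq]
  constructor
  · rintro ⟨-, h⟩
    have h5 : p.1.1 ^ 5 = 0 := by linear_combination h - p.1.2 * h2
    exact pow_eq_zero_iff (by norm_num) |>.1 h5
  · intro hp
    rw [hp]
    refine ⟨by simp, ?_⟩
    simp only [ne_eq, OfNat.ofNat_ne_zero, not_false_eq_true, zero_pow, zero_mul, add_zero]
    linear_combination p.1.2 * h2

theorem sq_mem_center (s : S) : s * s ∈ Subgroup.center S := by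
  obtain ⟨p, rfl⟩ := e.surjective s
  rw [he, mem_center_iff hF e he]
  show p.1.1 + p.1.1 = 0
  linear_combination p.1.1 * two_eq_zero hF

theorem card_center' : Nat.card (Subgroup.center S) = 4 := by
  rw [← card_fiber hF (0 : F)]
  refine (Nat.card_eq_of_bijective (fun b : {b : F // ((0 : F), b) ∈ Param F} =>
    (⟨e ⟨(0, b.1), b.2⟩, (mem_center_iff hF e he _).2 rfl⟩ : Subgroup.center S)) ⟨?_, ?_⟩).symm
  · intro b b' h
    have := e.injective (congrArg Subtype.val h)
    exact Subtype.ext (congrArg (fun p : Param F => p.1.2) this)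
  · rintro ⟨s, hs⟩
    obtain ⟨⟨⟨a, b⟩, hp⟩, rfl⟩ := e.surjective s
    obtain rfl : a = 0 := (mem_center_iff hF e he _).1 hs
    exact ⟨⟨b, hp⟩, rfl⟩

theorem card_centralizer' [Finite S] {s : S} (hs : s ∉ Subgroup.center S) :
    Nat.card (Subgroup.centralizer ({s} : Set S)) ≤ 16 := by
  classical
  obtain ⟨p, rfl⟩ := e.surjective s
  have hp : p.1.1 ≠ 0 := fun h => hs ((mem_center_iff hF e he p).2 h)
  have hA : ∀ t : Subgroup.centralizer ({e p} : Set S),
      ((e.symm t.1).1.1 / p.1.1) ^ 4 = (e.symm t.1).1.1 / p.1.1 := by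
    intro t
    have h := Subgroup.mem_centralizer_singleton_iff.1 t.2
    rw [← e.apply_symm_apply t.1, commute_iff hF e he] at h
    rw [div_pow, div_eq_div_iff (pow_ne_zero _ hp) hp]
    linear_combination h
  have hf : Function.Injective (fun t : Subgroup.centralizer ({e p} : Set S) =>
      (⟨(⟨(e.symm t.1).1.1 / p.1.1, hA t⟩ : {x : F // x ^ 4 = x}), (e.symm t.1).1.2, by
        rw [div_mul_cancel₀ _ hp]; exact (e.symm t.1).2⟩ :
        (x : {x : F // x ^ 4 = x}) × {b : F // (x.1 * p.1.1, b) ∈ Param F})) := by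
    intro t t' h
    simp only at h
    have h1 := congrArg (fun q : (x : {x : F // x ^ 4 = x}) ×
      {b : F // (x.1 * p.1.1, b) ∈ Param F} => (q.1.1 * p.1.1, q.2.1)) h
    simp only [div_mul_cancel₀ _ hp] at h1
    exact Subtype.ext (e.symm.injective (Subtype.ext h1))
  refine (Nat.card_le_card_of_injective _ hf).trans ?_
  rw [Nat.card_sigma]
  simp only [card_fiber hF, Finset.sum_const, Finset.card_univ, smul_eq_mul]
  have h4 : Fintype.card {x : F // x ^ 4 = x} = 4 := by
    rw [← Nat.card_eq_fintype_card]; exact (psi_range_ker hF).2.2.2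
  omega

theorem exists_cm_eq {z : S} (hz : z ∈ Subgroup.center S) :
    ∃ s t : S, s * t = t * s * z := by
  obtain ⟨r, rfl⟩ := e.surjective z
  have hr : r.1.1 = 0 := (mem_center_iff hF e he r).1 hz
  have hr' : r.1.2 ^ 4 = r.1.2 := by
    have h : r.1.2 + r.1.2 ^ 4 = r.1.1 ^ 5 := r.2
    rw [hr] at h
    linear_combination h - r.1.2 * two_eq_zero hF
  obtain ⟨t, ht⟩ := (psi_range_ker hF).1 r.1.2 hr'
  obtain ⟨⟨b, hb⟩⟩ : Nonempty {b : F // ((1 : F), b) ∈ Param F} :=
    (Nat.card_pos_iff.1 (by rw [card_fiber hF]; norm_num)).1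
  obtain ⟨⟨b', hb'⟩⟩ : Nonempty {b : F // (t, b) ∈ Param F} :=
    (Nat.card_pos_iff.1 (by rw [card_fiber hF]; norm_num)).1
  refine ⟨e ⟨(1, b), hb⟩, e ⟨(t, b'), hb'⟩, ?_⟩
  change t + t ^ 4 = r.1.2 at ht
  rw [he, he, he, e.injective.eq_iff, Subtype.mk_eq_mk]
  simp only [op, hr, Prod.mk.injEq]
  refine ⟨by ring, ?_⟩
  linear_combination ht - t ^ 4 * two_eq_zero hF

end

/-- The structure of the Sylow 2-subgroups of `PSU₃(4)`. -/
theorem isUnitaryType (hF : Fintype.card F = 16) (S : Sylow 2 (Cfsg.PSU 3 F 4)) :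
    CfsgLib.InvChar.SymThree.IsUnitaryType ↥(S : Subgroup (Cfsg.PSU 3 F 4)) := by
  obtain ⟨e, he⟩ := exists_param hF S
  refine ⟨?_, card_center' hF e he, sq_mem_center hF e he, ?_, ?_, fun g hg =>
    card_centralizer' hF e he hg⟩
  · rw [← Nat.card_congr e, card_param hF]
  · intro z hz
    obtain ⟨p, rfl⟩ := e.surjective z
    exact (sq_eq hF e he p).2 ((mem_center_iff hF e he p).1 hz)
  · intro g hg
    obtain ⟨p, rfl⟩ := e.surjective g
    exact (mem_center_iff hF e he p).2 ((sq_eq hF e he p).1 hg)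

end CfsgLib.InvChar.UnitaryFour

namespace CfsgLib.InvChar.SymThree

theorem IsUnitaryType.of_equiv {T U : Type*} [Group T] [Group U] (f : T ≃* U)
    (h : IsUnitaryType U) : IsUnitaryType T := by
  have hc : ∀ t : T, t ∈ Subgroup.center T ↔ f t ∈ Subgroup.center U := fun t => by
    simp only [Subgroup.mem_center_iff]
    exact ⟨fun ht u => f.symm.injective (by simpa using ht (f.symm u)),
      fun ht s => f.injective (by simpa using ht (f s))⟩
  refine ⟨(Nat.card_congr f.toEquiv).trans h.card_eq, ?_, fun g => ?_, fun z hz => ?_, fun g hg => ?_,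
    fun g hg => ?_⟩
  · exact (Nat.card_congr (f.toEquiv.subtypeEquiv hc)).trans h.card_center
  · rw [hc, map_mul]; exact h.sq_center _
  · exact f.injective (by rw [map_mul, map_one]; exact h.center_sq _ ((hc z).1 hz))
  · exact (hc g).2 (h.invol_center _ (by rw [← map_mul, hg, map_one]))
  · refine le_trans (le_of_eq ?_) (h.card_centralizer (f g) fun e => hg ((hc g).2 e))
    exact Nat.card_congr (f.toEquiv.subtypeEquiv fun t => by
      show _ ↔ f t ∈ Subgroup.centralizer ({f g} : Set U)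
      rw [Subgroup.mem_centralizer_singleton_iff, Subgroup.mem_centralizer_singleton_iff, ← map_mul,
        ← map_mul, f.injective.eq_iff])

end CfsgLib.InvChar.SymThree
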